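import Cfsg.Agent.SUThree.Rational.Model
import Cfsg.Agent.Forms.Diagonal
import Cfsg.Agent.MaxSub.HermStandard

/-!
# A rational structure of index two has a rational hyperbolic frame
-/

set_option autoImplicit false
set_option linter.unusedSectionVars false

namespace CfsgLib.SUThree.Rational

open Matrix Cfsg.Geo CfsgLib.MaxSub CfsgLib.MaxSub.Circle

/-- A symmetric nondegenerate form in three variables over a finite field of odd order is hyperbolic. -/
theorem exists_hyperbolic {K : Type*} [Field K] [Fintype K] (h2 : (2 : K) ≠ 0) {G : Matrix (Fin 3) (Fin 3) K}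
    (hG : Gᵀ = G) (hdet : G.det ≠ 0) :
    ∃ (R : GL (Fin 3) K) (k : K), k ≠ 0 ∧
      ((R : Matrix (Fin 3) (Fin 3) K))ᵀ * G * (R : Matrix (Fin 3) (Fin 3) K) = k • !![0, 0, 1; 0, 1, 0; 1, 0, 0] := by
  classical
  set B : LinearMap.BilinForm K (Fin 3 → K) := Matrix.toLinearMap₂' K G with hBdef
  have hB : ∀ x y, B x y = x ⬝ᵥ G *ᵥ y := fun x y => Matrix.toLinearMap₂'_apply' G x y
  have hS : B.IsSymm := ⟨fun x y => by
    rw [hB, hB]
    conv_rhs => rw [dotProduct_mulVec, ← mulVec_transpose, hG, dotProduct_comm]⟩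
  obtain ⟨α, hα⟩ := FiniteField.exists_nonsquare (F := K) (fun h => h2 (by
    have := ringChar.eq_iff.1 h
    exact CharTwo.two_eq_zero))
  obtain ⟨b, hoff, h1, hlast⟩ := CfsgLib.Forms.exists_diagonal_basis_symm h2 B hS (fun x hx => by
    by_contra h0
    have hv : x ᵥ* G = 0 := funext fun j => by
      have := hx (Pi.single j 1)
      rw [hB, dotProduct_mulVec, dotProduct_single, mul_one] at this
      exact this
    exact hdet (Matrix.exists_vecMul_eq_zero_iff.1 ⟨x, h0, hv⟩)) hα (n := 2) (by simp)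
  obtain ⟨d, hd, hd0⟩ : ∃ d, d = B (b 2) (b 2) ∧ d ≠ 0 := by
    refine ⟨_, rfl, ?_⟩
    rcases hlast with h | h <;> rw [show (2 : Fin 3) = Fin.last 2 from rfl, h]
    · exact one_ne_zero
    · exact fun e => hα (e ▸ ⟨0, by simp⟩)
  have hodd : Fintype.card K % 2 = 1 := FiniteField.odd_card_of_char_ne_two fun h => h2 (by
    have := ringChar.eq_iff.1 h
    exact CharTwo.two_eq_zero)
  obtain ⟨x, y, hxy⟩ := FiniteField.exists_root_sum_quadratic (f := (Polynomial.X ^ 2 - Polynomial.C (-d)))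
    (g := Polynomial.C (1 : K) * Polynomial.X ^ 2) (Polynomial.degree_X_pow_sub_C (by norm_num) _)
    (Polynomial.degree_C_mul_X_pow 2 one_ne_zero) hodd
  simp only [Polynomial.eval_sub, Polynomial.eval_pow, Polynomial.eval_X, Polynomial.eval_C,
    Polynomial.eval_mul, one_mul, sub_neg_eq_add] at hxy
  have b00 := h1 0 (by decide)
  have b11 := h1 1 (by decide)
  have b22 : B (b 2) (b 2) = d := hd.symm
  have b01 := hoff 0 1 (by decide)
  have b02 := hoff 0 2 (by decide)
  have b10 := hoff 1 0 (by decide)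
  have b12 := hoff 1 2 (by decide)
  have b20 := hoff 2 0 (by decide)
  have b21 := hoff 2 1 (by decide)
  set e := x • b 0 + y • b 1 + b 2 with he
  set a := y • b 0 - x • b 1 with ha
  set f := (2⁻¹ : K) • (x • b 0 + y • b 1 - b 2) with hf
  have hv : ∀ i j, B (![e, a, f] i) (![e, a, f] j) = (-d) * (!![0, 0, 1; 0, 1, 0; 1, 0, 0] : Matrix (Fin 3) (Fin 3) K) i j := by
    intro i j
    fin_cases i <;> fin_cases j <;>
      simp [he, ha, hf, map_add, map_sub, map_smul, LinearMap.add_apply, LinearMap.sub_apply, LinearMap.smul_apply,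
        b00, b11, b22, b01, b02, b10, b12, b20, b21] <;>
      (try field_simp) <;> first
        | exact Or.inr (by ring1)
        | exact Or.inr (by linear_combination hxy)
        | linear_combination hxy
        | linear_combination 2 * hxy
        | linear_combination (-1) * hxy
        | linear_combination 4 * hxy
        | ring
  set R : Matrix (Fin 3) (Fin 3) K := (Matrix.of ![e, a, f])ᵀ with hR
  have hprod : Rᵀ * G * R = (-d) • !![0, 0, 1; 0, 1, 0; 1, 0, 0] := by
    ext i j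
    rw [Matrix.mul_assoc, mul_apply, Matrix.smul_apply, smul_eq_mul, ← hv, hB]
    simp [hR, dotProduct, mulVec, mul_apply]
  have hdetR : R.det ≠ 0 := fun h => by
    have := congrArg Matrix.det hprod
    simp [det_mul, h, det_smul, det_fin_three, hd0] at this
  exact ⟨GeneralLinearGroup.mkOfDetNeZero R hdetR, -d, neg_ne_zero.2 hd0, hprod⟩

variable {F : Type*} [Field F] [Fintype F] {q : ℕ} {σ : F ≃+* F}

/-- The subfield of index two is the fixed field. -/
theorem mem_subfield_iff (hb : IsBar q σ) (F₀ : Subfield F) (hF₀ : Fintype.card F = Nat.card F₀ ^ 2) (x : F) :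
    x ∈ F₀ ↔ σ x = x := by
  classical
  have : Fintype F₀ := Fintype.ofFinite F₀
  have hc : Nat.card F₀ = q := by
    rw [hb.card] at hF₀
    exact (Nat.pow_left_injective two_ne_zero hF₀).symm
  have hle : ∀ x ∈ F₀, σ x = x := fun x hx => by
    have h := congrArg Subtype.val (FiniteField.pow_card (⟨x, hx⟩ : F₀))
    rw [← Nat.card_eq_fintype_card, hc] at h
    rw [hb.eq_pow]
    simpa using h
  refine ⟨hle x, fun hx => ?_⟩
  have heq : F₀.toAddSubgroup = fixed σ :=
    AddSubgroup.eq_of_le_of_card_ge (fun y hy => hle y hy) (by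
      rw [card_fixedSub hb]; exact hc.ge)
  exact (heq ▸ hx : x ∈ F₀.toAddSubgroup)

/-- **A frame**: the rational structure can be moved to the hyperbolic one. -/
theorem exists_frame (hb : IsBar q σ) (hf : IsUnitaryForm σ (Cfsg.hermForm 3 F q)) (h2 : (2 : F) ≠ 0)
    (F₀ : Subfield F) (hfix : ∀ x, x ∈ F₀ ↔ σ x = x) {P : GL (Fin 3) F}
    (hP : IsFormRationalStructure (Cfsg.hermForm 3 F q) F₀ 1 P) :
    ∃ (R : GL (Fin 3) F₀) (k : F), k ≠ 0 ∧ σ k = k ∧ ∀ x y, Cfsg.hermForm 3 F q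
        (((P * GeneralLinearGroup.map (F₀.subtype : F₀ →+* F) R : GL (Fin 3) F) : Matrix (Fin 3) (Fin 3) F) *ᵥ x)
        (((P * GeneralLinearGroup.map (F₀.subtype : F₀ →+* F) R : GL (Fin 3) F) : Matrix (Fin 3) (Fin 3) F) *ᵥ y) =
      k * jf σ x y := by
  classical
  have : Fintype F₀ := Fintype.ofFinite F₀
  have hs := sesqForm_of_unitary hf
  obtain ⟨col, hcol⟩ : ∃ col : Fin 3 → Fin 3 → F, col = fun i => (P : Matrix (Fin 3) (Fin 3) F) *ᵥ Pi.single i 1 :=
    ⟨_, rfl⟩
  have hmem : ∀ i j, Cfsg.hermForm 3 F q (col i) (col j) ∈ F₀ := fun i j => by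
    have h1 : ∀ i l, (Pi.single i 1 : Fin 3 → F) l ∈ F₀ := fun i l => by
      rw [Pi.single_apply]; split_ifs <;> simp [F₀.one_mem, F₀.zero_mem]
    simpa [hcol] using hP _ _ (h1 i) (h1 j)
  set G : Matrix (Fin 3) (Fin 3) F₀ := fun i j => ⟨_, hmem i j⟩ with hG
  have hsym : Gᵀ = G := Matrix.ext fun i j => Subtype.ext (by
    show Cfsg.hermForm 3 F q (col j) (col i) = Cfsg.hermForm 3 F q (col i) (col j)
    rw [hf.herm]; exact (hfix _).1 (hmem i j))
  have hexp : ∀ u v : Fin 3 → F, Cfsg.hermForm 3 F q ((P : Matrix (Fin 3) (Fin 3) F) *ᵥ u)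
      ((P : Matrix (Fin 3) (Fin 3) F) *ᵥ v) = ∑ i, ∑ j, u i * σ (v j) * (G i j : F) := fun u v => by
    have e : ∀ w : Fin 3 → F, (P : Matrix (Fin 3) (Fin 3) F) *ᵥ w = ∑ i, w i • col i := fun w => by
      rw [hcol]; simp only [← mulVec_smul, ← mulVec_sum, ← pi_eq_sum_univ']
    rw [e, e]
    simp [Fin.sum_univ_three, hs.add_left, hs.add_right, hs.smul_left, hs.smul_right, hG]
    ring
  have hdet : G.det ≠ 0 := by
    intro h
    obtain ⟨w, hw0, hw⟩ := Matrix.exists_vecMul_eq_zero_iff.2 h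
    obtain ⟨y, hy⟩ := hs.exists_left_ne_zero (show (P : Matrix (Fin 3) (Fin 3) F) *ᵥ (fun i => ((w i : F₀) : F)) ≠ 0
      from fun e => hw0 (funext fun i => Subtype.ext (congrFun
        ((Matrix.mulVec_injective_iff_isUnit.mpr P.isUnit) (e.trans (mulVec_zero _).symm)) i)))
    have hy' := unitary_ne_symm hf hy
    rw [← one_mulVec y, ← Units.val_one, ← mul_inv_cancel P, Units.val_mul, ← mulVec_mulVec, hexp] at hy'
    refine hy' ?_
    rw [Finset.sum_comm]
    refine Finset.sum_eq_zero fun j _ => ?_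
    have := congrArg Subtype.val (congrFun hw j)
    simp [vecMul, dotProduct, Fin.sum_univ_three] at this
    simp [Fin.sum_univ_three, Matrix.coe_units_inv]
    linear_combination σ ((((P : Matrix (Fin 3) (Fin 3) F))⁻¹ *ᵥ y) j) * this
  have h20 : (2 : F₀) ≠ 0 := fun e => h2 (by rw [← map_ofNat F₀.subtype 2, e, map_zero])
  obtain ⟨R, k, hk, hR⟩ := exists_hyperbolic h20 hsym hdet
  refine ⟨R, (k : F), fun e => hk (Subtype.ext e), (hfix _).1 k.2, fun x y => ?_⟩
  rw [Units.val_mul, ← mulVec_mulVec, ← mulVec_mulVec, hexp]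
  have e : ∀ a c, ∑ i, ∑ j, ((R : Matrix (Fin 3) (Fin 3) F₀) i a : F) *
      ((R : Matrix (Fin 3) (Fin 3) F₀) j c : F) * (G i j : F) =
      (k : F) * (((!![0, 0, 1; 0, 1, 0; 1, 0, 0] : Matrix (Fin 3) (Fin 3) F₀) a c : F₀) : F) := fun a c => by
    have h := congrArg Subtype.val (congrFun (congrFun hR a) c)
    simp [mul_apply, Fin.sum_univ_three] at h
    simp [Fin.sum_univ_three]
    linear_combination h
  have hσR : ∀ i j, σ ((R : Matrix (Fin 3) (Fin 3) F₀) i j : F) = ((R : Matrix (Fin 3) (Fin 3) F₀) i j : F) :=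
    fun i j => (hfix _).1 (SetLike.coe_mem _)
  have e00 := e 0 0
  have e01 := e 0 1
  have e02 := e 0 2
  have e10 := e 1 0
  have e11 := e 1 1
  have e12 := e 1 2
  have e20 := e 2 0
  have e21 := e 2 1
  have e22 := e 2 2
  simp [Fin.sum_univ_three] at e00 e01 e02 e10 e11 e12 e20 e21 e22
  simp [jf, mulVec, dotProduct, Fin.sum_univ_three, map_add, map_mul, hσR]
  linear_combination (x 0 * σ (y 0)) * e00 + (x 0 * σ (y 1)) * e01 + (x 0 * σ (y 2)) * e02 +
    (x 1 * σ (y 0)) * e10 + (x 1 * σ (y 1)) * e11 + (x 1 * σ (y 2)) * e12 +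
    (x 2 * σ (y 0)) * e20 + (x 2 * σ (y 1)) * e21 + (x 2 * σ (y 2)) * e22

end CfsgLib.SUThree.Rational
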