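import Cfsg.Agent.SUThree.Rational.Small
import Cfsg.Agent.SUThree.Rational.Frame
import Cfsg.Agent.SUThree.Basic
import Cfsg.Agent.SUThree.Index
import Cfsg.Agent.MaxSub.QuadraticBasic

/-!
# The subfield groups of index two are maximal in `SU₃(q)`, `q ≥ 7` odd
-/

set_option autoImplicit false
set_option linter.unusedSectionVars false

namespace CfsgLib.SUThree.Rational

open Matrix Cfsg.Geo CfsgLib.MaxSub CfsgLib.MaxSub.UC CfsgLib.MaxSub.Circle

variable {F : Type*} [Field F] [Fintype F] {q : ℕ}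

/-- **Clause 6.** -/
theorem isMaximalIn_rational (hF : Fintype.card F = q ^ 2) (hodd : Odd q) (hq : 7 ≤ q) (F₀ : Subfield F)
    (P : GL (Fin 3) F) (hF₀ : Fintype.card F = Nat.card F₀ ^ 2)
    (hP : IsFormRationalStructure (Cfsg.hermForm 3 F q) F₀ 1 P) :
    IsMaximalIn (Cfsg.GU 3 F q ⊓ specialLinear (Fin 3) F)
      (subfieldSubgroup F₀ P ⊓ (Cfsg.GU 3 F q ⊓ specialLinear (Fin 3) F)) := by
  classical
  obtain ⟨σ, h1, h2', h3⟩ := CfsgLib.MaxSub.exists_conjEquiv hF
  have hb : IsBar q σ := ⟨h3, hF, h1, h2'⟩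
  have hf : IsUnitaryForm σ (Cfsg.hermForm 3 F q) := isUnitaryForm_hermForm h1 h2' h3
  have hs := sesqForm_of_unitary hf
  have h2 : (2 : F) ≠ 0 := two_ne_zero_of_odd (by rw [hF]; exact hodd.pow)
  have hfix := mem_subfield_iff hb F₀ hF₀
  obtain ⟨R, k, hk, hσk, hQ⟩ := exists_frame hb hf h2 F₀ hfix hP
  set Rm := GeneralLinearGroup.map (F₀.subtype : F₀ →+* F) R with hRm
  set Q := P * Rm with hQdef
  set ψ : GL (Fin 3) F →* GL (Fin 3) F := (MulAut.conj Q).toMonoidHom with hψ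
  have hψg : ∀ g, ψ g = Q * g * Q⁻¹ := fun g => rfl
  have hψi : Function.Injective ψ := (MulAut.conj Q).injective
  have hψs : ∀ x, ψ (Q⁻¹ * x * Q) = x := fun x => by rw [hψg]; group
  set SU := Cfsg.GU 3 F q ⊓ specialLinear (Fin 3) F with hSU
  have hcomap : SU.comap ψ = jGroup σ := by
    ext g
    rw [Subgroup.mem_comap, hψg, hSU, Subgroup.mem_inf, su_det hf, Units.val_mul, Units.val_mul, det_units_conj,
      mem_GU_iff_forall]
    refine ⟨fun h => ⟨fun x y => mul_left_cancel₀ hk ?_, h.2⟩, fun h => ⟨fun x y => ?_, h.2⟩⟩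
    · have := h.1 ((Q : Matrix (Fin 3) (Fin 3) F) *ᵥ x) ((Q : Matrix (Fin 3) (Fin 3) F) *ᵥ y)
      simp only [Units.val_mul, mulVec_mulVec, mul_assoc, Units.inv_mul, mul_one] at this
      rw [← hQ, ← hQ, mulVec_mulVec, mulVec_mulVec]
      exact this
    · obtain ⟨x, rfl⟩ : ∃ x', x = (Q : Matrix (Fin 3) (Fin 3) F) *ᵥ x' :=
        ⟨((Q⁻¹ : GL (Fin 3) F) : Matrix (Fin 3) (Fin 3) F) *ᵥ x, by rw [mulVec_mulVec, Units.mul_inv, one_mulVec]⟩
      obtain ⟨y, rfl⟩ : ∃ y', y = (Q : Matrix (Fin 3) (Fin 3) F) *ᵥ y' :=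
        ⟨((Q⁻¹ : GL (Fin 3) F) : Matrix (Fin 3) (Fin 3) F) *ᵥ y, by rw [mulVec_mulVec, Units.mul_inv, one_mulVec]⟩
      simp only [Units.val_mul, mulVec_mulVec, mul_assoc, Units.inv_mul, mul_one]
      rw [hQ, ← mulVec_mulVec, ← mulVec_mulVec, hQ, h.1]
  have hrealH : ∀ g, ψ g ∈ subfieldSubgroup F₀ P ⊓ SU ↔ g ∈ realGroup σ := by
    intro g
    rw [Subgroup.mem_inf, ← Subgroup.mem_comap (K := SU), hcomap, mem_realGroup, and_comm]
    refine and_congr_right fun _ => ⟨fun h => ?_, fun h => ?_⟩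
    · obtain ⟨x, hx, e⟩ := h
      have hreal : IsReal σ x := by
        refine Subgroup.closure_induction (k := (((GeneralLinearGroup.map (n := Fin 3) (F₀.subtype : F₀ →+* F)).range : Subgroup (GL (Fin 3) F)) :
            Set (GL (Fin 3) F)) ∪ (scalars (Fin 3) F : Set (GL (Fin 3) F))) (p := fun x _ => IsReal σ x) ?_ ?_
          (fun a b _ _ ha hb => isReal_mul ha hb) (fun a _ ha => isReal_inv ha) (x := x) ?_
        · rintro a (⟨A, rfl⟩ | ha)
          · exact ⟨1, _, fun i j => (hfix _).1 (SetLike.coe_mem _), (one_smul F _).symm⟩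
          · obtain ⟨c, hc⟩ := (mem_scalars_iff a).1 ha
            exact ⟨c, 1, fun i j => by rw [one_apply]; split_ifs <;> simp, hc⟩
        · exact ⟨1, 1, fun i j => by rw [one_apply]; split_ifs <;> simp, by simp⟩
        · rwa [Subgroup.sup_eq_closure] at hx
      have hg : g = Rm⁻¹ * x * Rm := by
        have e' : P * x * P⁻¹ = Q * g * Q⁻¹ := e
        rw [hQdef] at e'
        calc g = Rm⁻¹ * (P⁻¹ * (P * Rm * g * (P * Rm)⁻¹) * P) * Rm := by group
          _ = Rm⁻¹ * x * Rm := by rw [← e']; group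
      have hR : IsReal σ Rm := ⟨1, _, fun i j => (hfix _).1 (SetLike.coe_mem _), (one_smul F _).symm⟩
      exact hg ▸ isReal_mul (isReal_mul (isReal_inv hR) hreal) hR
    · obtain ⟨z, A, hA, hz⟩ := h
      have hz0 : z ≠ 0 := fun e => g.ne_zero (by rw [hz, e, zero_smul])
      set A₀ : Matrix (Fin 3) (Fin 3) F₀ := fun i j => ⟨A i j, (hfix _).2 (hA i j)⟩
      have hA₀ : A₀.map F₀.subtype = A := Matrix.ext fun i j => rfl
      have hdet : A₀.det ≠ 0 := fun e => by
        have e' : A.det = 0 := by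
          rw [← hA₀, ← RingHom.mapMatrix_apply, ← RingHom.map_det, e, map_zero]
        have hu := (Matrix.isUnit_iff_isUnit_det _).1 g.isUnit
        rw [hz, det_smul, e', mul_zero] at hu
        exact not_isUnit_zero hu
      obtain ⟨zs, hzs⟩ : ∃ s ∈ scalars (Fin 3) F, (s : Matrix (Fin 3) (Fin 3) F) = z • 1 :=
        ⟨scl (Units.mk0 z hz0), (mem_scalars_iff _).2 ⟨Units.mk0 z hz0, scl_val _⟩, scl_val _⟩
      have hg : g = zs * GeneralLinearGroup.map (F₀.subtype : F₀ →+* F) (GeneralLinearGroup.mkOfDetNeZero A₀ hdet) :=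
        Units.ext (by rw [Units.val_mul, hzs.2, smul_one_mul, hz]; congr 1)
      refine ⟨Rm * g * Rm⁻¹, ?_, ?_⟩
      · have hRm' : Rm ∈ (GeneralLinearGroup.map (F₀.subtype : F₀ →+* F)).range := ⟨R, rfl⟩
        refine Subgroup.mul_mem _ (Subgroup.mul_mem _ (Subgroup.mem_sup_left hRm') ?_)
          (Subgroup.inv_mem _ (Subgroup.mem_sup_left hRm'))
        rw [hg]
        exact Subgroup.mul_mem _ (Subgroup.mem_sup_right hzs.1) (Subgroup.mem_sup_left ⟨_, rfl⟩)
      · show P * (Rm * g * Rm⁻¹) * P⁻¹ = Q * g * Q⁻¹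
        rw [hQdef]; group
  refine isMaximalIn_of inf_le_right ?_ fun M hHM hMK g hg hg' => by_contra fun hne => hne ?_
  · obtain ⟨s, hs0, hs'⟩ := exists_traceZero hf.ne_refl hf.involutive
    refine ⟨ψ (uT σ 0 s), ?_, fun h => ?_⟩
    · rw [← Subgroup.mem_comap, hcomap]
      exact uT_mem hb (by rw [hs', map_zero, mul_zero, neg_zero, add_neg_cancel])
    · obtain ⟨z, A, hA, hz⟩ := ((hrealH _).1 h).2
      have e00 := congrFun (congrFun hz 0) 0
      have e02 := congrFun (congrFun hz 0) 2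
      simp [uT_val] at e00 e02
      have hz' : z = (A 0 0)⁻¹ := eq_inv_of_mul_eq_one_left e00.symm
      have : σ s = s := by rw [e02, map_mul, hA, hz', map_inv₀, hA]
      refine hs0 ((mul_eq_zero.1 (show (2 : F) * s = 0 from ?_)).resolve_left h2)
      linear_combination this.symm.trans hs'
  set M' := M.comap ψ with hM'
  have hMJ : M' ≤ jGroup σ := hcomap ▸ Subgroup.comap_mono hMK
  have hreal : realGroup σ ≤ M' := fun h hh => hHM ((hrealH h).2 hh)
  have hcard : Nat.card M' = Nat.card M := by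
    rw [Nat.card_congr (M'.equivMapOfInjective ψ hψi).toEquiv, hM',
      Subgroup.map_comap_eq_self (fun x _ => ⟨_, hψs x⟩)]
  have hdvd : Nat.card M' ∣ q ^ 3 * (q ^ 2 - 1) * (q ^ 3 + 1) :=
    hcard ▸ card_su hF ▸ Subgroup.card_dvd_of_le hMK
  have hsc : ∀ h ∈ SU, (∃ r : F, (h : Matrix (Fin 3) (Fin 3) F) = r • 1) → h ∈ M := fun h hh ⟨r, hr⟩ => by
    refine hHM ⟨⟨h, Subgroup.mem_sup_right ?_, ?_⟩, hh⟩
    · have hr0 : r ≠ 0 := fun e => h.ne_zero (by rw [hr, e, zero_smul])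
      exact (mem_scalars_iff _).2 ⟨Units.mk0 r hr0, hr⟩
    · refine Units.ext ?_
      show ((P * h * P⁻¹ : GL (Fin 3) F) : Matrix (Fin 3) (Fin 3) F) = _
      rw [Units.val_mul, Units.val_mul, hr, mul_smul_comm, smul_mul_assoc, mul_one, Units.mul_inv]
  have hsmall : Nat.card M' ≤ q ^ 3 * (q ^ 2 - 1) := by
    obtain ⟨c, hc, hMc⟩ := card_le_of_scalars hF (by omega) (by omega) hMK hsc hne
    have : Nat.card M * (q ^ 3 + 1) ≤ q ^ 3 * (q ^ 2 - 1) * (q ^ 3 + 1) :=
      hMc ▸ Nat.mul_le_mul_left _ hc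
    exact hcard ▸ Nat.le_of_mul_le_mul_right this (by positivity)
  have hout : ∃ g ∈ M', g ∉ realGroup σ := ⟨Q⁻¹ * g * Q, by show ψ _ ∈ M; rw [hψs]; exact hg, fun h => hg' (by
    have := (hrealH _).2 h
    rwa [hψs] at this)⟩
  set v := (Q : Matrix (Fin 3) (Fin 3) F) *ᵥ Pi.single 0 1 with hv
  have hvv : Cfsg.hermForm 3 F q v v = 0 := by rw [hv, hQ]; simp [jf]
  have hv0 : v ≠ 0 := fun e => by
    have := (Matrix.mulVec_injective_iff_isUnit.mpr Q.isUnit) (e.trans (mulVec_zero _).symm)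
    exact one_ne_zero (α := F) (by simpa using congrFun this 0)
  have hcv : CentreIn q σ M v := fun c hc => by
    have hx : σ (c * k) = -(c * k) := by rw [map_mul, hc, hσk]; ring
    have := le_real_or_root hb hq hodd hMJ hreal hdvd hsmall hout hx
    have e : ψ (uT σ 0 (c * k)) = uTv q v c := by
      refine Units.ext (Matrix.ext_iff_mulVec.mpr fun y => ?_)
      obtain ⟨y, rfl⟩ : ∃ y', y = (Q : Matrix (Fin 3) (Fin 3) F) *ᵥ y' :=
        ⟨((Q⁻¹ : GL (Fin 3) F) : Matrix (Fin 3) (Fin 3) F) *ᵥ y, by rw [mulVec_mulVec, Units.mul_inv, one_mulVec]⟩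
      rw [uTv_mulVec hf hvv, hψg, Units.val_mul, Units.val_mul, mulVec_mulVec, mul_assoc, Units.inv_mul, mul_one,
        ← mulVec_mulVec, hv, hQ, ← mulVec_smul, ← mulVec_add]
      congr 1
      funext i
      fin_cases i <;> simp [uT_val, jf, mulVec, dotProduct, Fin.sum_univ_three] <;> ring
    exact e ▸ this
  refine su_le_of_centre hf hb (by omega) (hMK.trans inf_le_left) (fun W hW => ?_) hvv hv0 hcv
  -- irreducibility
  obtain ⟨W', hW'⟩ : ∃ W', W' = W.comap (Matrix.toLin' (Q : Matrix (Fin 3) (Fin 3) F)) := ⟨_, rfl⟩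
  have hinv : ∀ h ∈ realGroup σ, ∀ x ∈ W', (h : Matrix (Fin 3) (Fin 3) F) *ᵥ x ∈ W' := by
    intro h hh x hx
    rw [hW', Submodule.mem_comap, toLin'_apply] at hx ⊢
    have := hW _ (hreal hh) _ hx
    rwa [hψg, Units.val_mul, Units.val_mul, mulVec_mulVec, mul_assoc, Units.inv_mul, mul_one, ← mulVec_mulVec] at this
  have hcase : W' = ⊥ ∨ W' = ⊤ := by
    by_cases hbot : W' = ⊥
    · exact Or.inl hbot
    refine Or.inr ?_
    obtain ⟨x, hx, hx0⟩ := Submodule.exists_mem_ne_zero_of_ne_bot hbot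
    have hu := uR_mem hb h2 (map_one σ)
    have hN : ∀ y ∈ W', (![-(y 1) - y 2 / 2, y 2, 0] : Fin 3 → F) ∈ W' := fun y hy => by
      have := W'.sub_mem (hinv _ hu y hy) hy
      convert this using 1
      funext i
      fin_cases i <;> simp [uR, uT_val, mulVec, dotProduct, Fin.sum_univ_three] <;> ring
    have he0 : (![1, 0, 0] : Fin 3 → F) ∈ W' := by
      by_cases hx2 : x 2 = 0
      · by_cases hx1 : x 1 = 0
        · have hxa : x 0 ≠ 0 := fun e => hx0 (funext fun i => by fin_cases i <;> simp [e, hx1, hx2])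
          convert W'.smul_mem (x 0)⁻¹ hx using 1
          funext i; fin_cases i <;> simp [hx1, hx2, hxa]
        · convert W'.smul_mem (-(x 1)⁻¹) (hN x hx) using 1
          funext i; fin_cases i <;> simp [hx2, hx1]
      · convert W'.smul_mem (-(x 2)⁻¹) (hN _ (hN x hx)) using 1
        funext i; fin_cases i <;> simp [hx2]
    have he2 : (![0, 0, 1] : Fin 3 → F) ∈ W' := by
      convert hinv _ flip3_mem _ he0 using 1
      funext i; fin_cases i <;> simp [flip3_val, mulVec, dotProduct, Fin.sum_univ_three]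
    have he1 : (![0, 1, 0] : Fin 3 → F) ∈ W' := by
      have := W'.add_mem (hN _ he2) (W'.smul_mem (1 / 2 : F) he0)
      convert this using 1
      funext i; fin_cases i <;> simp
    refine eq_top_iff.2 fun y _ => ?_
    have e : y = y 0 • ![1, 0, 0] + y 1 • ![0, 1, 0] + y 2 • (![0, 0, 1] : Fin 3 → F) := by
      funext i; fin_cases i <;> simp
    rw [e]
    exact W'.add_mem (W'.add_mem (W'.smul_mem _ he0) (W'.smul_mem _ he1)) (W'.smul_mem _ he2)
  have hsurj : Function.Surjective (Matrix.toLin' (Q : Matrix (Fin 3) (Fin 3) F)) := fun y =>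
    ⟨((Q⁻¹ : GL (Fin 3) F) : Matrix (Fin 3) (Fin 3) F) *ᵥ y, by
      rw [toLin'_apply, mulVec_mulVec, Units.mul_inv, one_mulVec]⟩
  have hWW : Submodule.map (Matrix.toLin' (Q : Matrix (Fin 3) (Fin 3) F)) W' = W := by
    rw [hW', Submodule.map_comap_eq_of_surjective hsurj]
  rcases hcase with h | h <;> rw [← hWW, h]
  · exact Or.inl (Submodule.map_bot _)
  · exact Or.inr (by rw [Submodule.map_top, LinearMap.range_eq_top.2 hsurj])

end CfsgLib.SUThree.Rational
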