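import Cfsg.Agent.SUThree.Rational.Count

/-!
# A chord of a transitive overgroup carries a transvection

The elements commuting with `diag(-1, 1, -1)` pair the isotropic points of a chord; no such pairing exists
without transvections once `q ≥ 13`.
-/

set_option autoImplicit false
set_option linter.unusedSectionVars false

namespace CfsgLib.SUThree.Rational

open Matrix CfsgLib.MaxSub CfsgLib.MaxSub.Circle

variable {F : Type*} [Field F] [Fintype F] {q : ℕ} {σ : F ≃+* F} {M : Subgroup (GL (Fin 3) F)}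

/-- Centralising `diag(-1, 1, -1)`. -/
def IsBlk (g : GL (Fin 3) F) : Prop := g ∈ Subgroup.centralizer ({dR (-1)} : Set (GL (Fin 3) F))

theorem isBlk_iff {g : GL (Fin 3) F} : IsBlk g ↔ dR (-1) * g = g * dR (-1) :=
  Subgroup.mem_centralizer_singleton_iff.trans ⟨fun h => h.symm, fun h => h.symm⟩

theorem blk_entries (h2 : (2 : F) ≠ 0) {g : GL (Fin 3) F} (h : IsBlk g) :
    (g : Matrix (Fin 3) (Fin 3) F) 0 1 = 0 ∧ (g : Matrix (Fin 3) (Fin 3) F) 1 0 = 0 ∧
      (g : Matrix (Fin 3) (Fin 3) F) 1 2 = 0 ∧ (g : Matrix (Fin 3) (Fin 3) F) 2 1 = 0 := by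
  have e : ∀ i j, (((dR (-1) : GL (Fin 3) F) * g : GL (Fin 3) F) : Matrix (Fin 3) (Fin 3) F) i j =
      ((g * dR (-1) : GL (Fin 3) F) : Matrix (Fin 3) (Fin 3) F) i j := fun i j => by rw [isBlk_iff.1 h]
  have e01 := e 0 1
  have e10 := e 1 0
  have e12 := e 1 2
  have e21 := e 2 1
  simp [dR_val, mul_apply, Fin.sum_univ_three] at e01 e10 e12 e21
  have k : ∀ x : F, -x = x → x = 0 := fun x hx =>
    (mul_eq_zero.1 (show (2 : F) * x = 0 by linear_combination -hx)).resolve_left h2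
  exact ⟨k _ e01, k _ e10.symm, k _ e12.symm, k _ e21⟩

theorem blk_dR (l : Fˣ) : IsBlk (dR l) := isBlk_iff.2 (Units.ext (by
  rw [Units.val_mul, Units.val_mul, dR_val, dR_val]
  ext i j; fin_cases i <;> fin_cases j <;> simp [mul_apply, Fin.sum_univ_three]))

theorem blk_flip3 : IsBlk (flip3 : GL (Fin 3) F) := isBlk_iff.2 (Units.ext (by
  rw [Units.val_mul, Units.val_mul, dR_val, flip3_val]
  ext i j; fin_cases i <;> fin_cases j <;> simp [mul_apply, Fin.sum_univ_three]))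

/-- `k` and `u` are the slopes of the two columns of an element of the chord stabiliser. -/
def Pair (M : Subgroup (GL (Fin 3) F)) (k u : F) : Prop :=
  ∃ g ∈ M, IsBlk g ∧ (g : Matrix (Fin 3) (Fin 3) F) 0 0 ≠ 0 ∧ (g : Matrix (Fin 3) (Fin 3) F) 0 2 ≠ 0 ∧
    (g : Matrix (Fin 3) (Fin 3) F) 2 0 = k * (g : Matrix (Fin 3) (Fin 3) F) 0 0 ∧
    (g : Matrix (Fin 3) (Fin 3) F) 2 2 = u * (g : Matrix (Fin 3) (Fin 3) F) 0 2

variable (hb : IsBar q σ) (h2 : (2 : F) ≠ 0) (hMJ : M ≤ jGroup σ) (hreal : realGroup σ ≤ M) (hT : NoRoot σ M)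
  (htr : ∀ a b : F, a + σ a = -(b * σ b) → ∃ g ∈ M, (g : Matrix (Fin 3) (Fin 3) F) 2 0 ≠ 0 ∧
    (g : Matrix (Fin 3) (Fin 3) F) 0 0 = a * (g : Matrix (Fin 3) (Fin 3) F) 2 0 ∧
    (g : Matrix (Fin 3) (Fin 3) F) 1 0 = b * (g : Matrix (Fin 3) (Fin 3) F) 2 0)

include hb h2 hMJ hreal hT

/-- A triangular element of the chord stabiliser is diagonal. -/
theorem blk_pStab {g : GL (Fin 3) F} (hg : g ∈ M) (hB : IsBlk g) (h20 : (g : Matrix (Fin 3) (Fin 3) F) 2 0 = 0) :
    ∃ (z : Fˣ) (l : Fˣ), σ (l : F) = l ∧ g = scl z * dR l := by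
  obtain ⟨h01, h10, -, -⟩ := blk_entries h2 hB
  obtain ⟨z, δ, l, -, hl, -, rfl⟩ := point_form hb h2 hreal hT hMJ hg h10 h20
  refine ⟨z, l, hl, ?_⟩
  simp [Units.val_mul, scl_val, uR, uT_val, dR_val, mul_apply, Fin.sum_univ_three] at h01
  have hd : δ = 0 := h01
  subst hd
  rw [uR, mul_zero, neg_zero, zero_div, uT_zero, one_mul]

include htr in
/-- Every point of the chord other than the two axes gives a pair. -/
theorem exists_pair {k : F} (hk : k ≠ 0) (hσk : σ k = -k) : ∃ u, u ≠ 0 ∧ σ u = -u ∧ u ≠ k ∧ Pair M k u := by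
  obtain ⟨g₀, hg₀, h20, h00, h10⟩ := htr k⁻¹ 0 (by rw [map_inv₀, hσk, inv_neg]; simp)
  rw [zero_mul] at h10
  set t' := g₀⁻¹ * dR (-1) * g₀ with ht'
  have ht'M : t' ∈ M := M.mul_mem (M.mul_mem (M.inv_mem hg₀) (hreal (dR_mem hb (by simp)))) hg₀
  have hcol : ∀ i, (t' : Matrix (Fin 3) (Fin 3) F) i 0 = -(1 : Matrix (Fin 3) (Fin 3) F) i 0 := fun i => by
    have h1 : ∀ j, ((dR (-1) * g₀ : GL (Fin 3) F) : Matrix (Fin 3) (Fin 3) F) j 0 =
        -(g₀ : Matrix (Fin 3) (Fin 3) F) j 0 := fun j => by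
      fin_cases j <;> simp [dR_val, mul_apply, Fin.sum_univ_three, h10]
    have h3 := congrFun (congrFun g₀.inv_mul i) 0
    rw [mul_apply, Fin.sum_univ_three] at h3
    rw [ht', mul_assoc, Units.val_mul, mul_apply, Fin.sum_univ_three, h1, h1, h1]
    linear_combination -h3
  obtain ⟨z, δ, l, hδ, hl, hz, et⟩ := point_form hb h2 hreal hT hMJ ht'M (by simp [hcol]) (by simp [hcol])
  have hsq : t' * t' = 1 := by
    have hdd : dR (-1) * dR (-1) = (1 : GL (Fin 3) F) := Units.ext (by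
      rw [Units.val_mul, dR_val, Units.val_one]
      ext i j; fin_cases i <;> fin_cases j <;> simp [mul_apply, Fin.sum_univ_three])
    rw [ht']
    simp only [mul_assoc, mul_inv_cancel_left]
    rw [← mul_assoc (dR (-1)) (dR (-1)), hdd, one_mul, inv_mul_cancel]
  have hz1 : (z : F) = 1 := by
    have h3 := hz.1.2
    rw [scl_val, det_smul, det_one, mul_one, Fintype.card_fin] at h3
    have h1 := congrFun (congrFun (congrArg (fun g : GL (Fin 3) F => (g : Matrix (Fin 3) (Fin 3) F)) hsq) 1) 1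
    simp [et, scl_val, uR, uT_val, dR_val, mul_apply, Fin.sum_univ_three] at h1
    linear_combination h3 - (z : F) * h1
  have hl1 : (l : F) = -1 := by
    have h := hcol 0
    simp [et, scl_val, uR, uT_val, dR_val, mul_apply, Fin.sum_univ_three, hz1] at h
    simpa using h
  have hdM : uR σ (δ / 2) ∈ realGroup σ := uR_mem hb h2 (by rw [map_div₀, hδ, map_ofNat])
  set g := g₀ * uR σ (δ / 2) with hg
  have hgM : g ∈ M := M.mul_mem hg₀ (hreal hdM)
  have hB : IsBlk g := by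
    refine isBlk_iff.2 ?_
    have e1 : t' * uR σ (δ / 2) = uR σ (δ / 2) * dR (-1) := by
      refine Units.ext ?_
      simp only [et, Units.val_mul, scl_val, uR, uT_val, dR_val, hz1, hl1]
      ext i j
      fin_cases i <;> fin_cases j <;> simp [mul_apply, Fin.sum_univ_three, hδ, map_div₀, map_ofNat] <;>
        field_simp <;> ring
    rw [hg, mul_assoc g₀, ← e1, ht']
    simp only [mul_assoc, mul_inv_cancel_left]
  obtain ⟨h01, -, h12, h21⟩ := blk_entries h2 hB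
  have c0 : ∀ i, (g : Matrix (Fin 3) (Fin 3) F) i 0 = (g₀ : Matrix (Fin 3) (Fin 3) F) i 0 := fun i => by
    simp [hg, uR, uT_val, mul_apply, Fin.sum_univ_three]
  have hk' : (g : Matrix (Fin 3) (Fin 3) F) 2 0 = k * (g : Matrix (Fin 3) (Fin 3) F) 0 0 := by
    rw [c0, c0, h00]; field_simp
  have ha : (g : Matrix (Fin 3) (Fin 3) F) 0 0 ≠ 0 := by
    rw [c0, h00]; exact mul_ne_zero (inv_ne_zero hk) h20
  have htri : (g : Matrix (Fin 3) (Fin 3) F) 0 2 ≠ 0 ∧ (g : Matrix (Fin 3) (Fin 3) F) 2 2 ≠ 0 := by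
    constructor
    · intro hb0
      have hf : flip3 * g * flip3 ∈ M := M.mul_mem (M.mul_mem (hreal flip3_mem) hgM) (hreal flip3_mem)
      obtain ⟨z', l', -, e⟩ := blk_pStab hb h2 hMJ hreal hT hf
        (Subgroup.mul_mem _ (Subgroup.mul_mem _ blk_flip3 hB) blk_flip3)
        (by simp [flip3_val, mul_apply, vecMul, dotProduct, Fin.sum_univ_three, hb0])
      have h := congrFun (congrFun (congrArg (fun g : GL (Fin 3) F => (g : Matrix (Fin 3) (Fin 3) F)) e) 0) 2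
      simp [flip3_val, scl_val, dR_val, mul_apply, vecMul, dotProduct, Fin.sum_univ_three, hk', hk, ha] at h
    · intro hd0
      obtain ⟨z', l', -, e⟩ := blk_pStab hb h2 hMJ hreal hT (M.mul_mem hgM (hreal flip3_mem))
        (Subgroup.mul_mem _ hB blk_flip3) (by simp [flip3_val, mul_apply, Fin.sum_univ_three, hd0])
      have h := congrFun (congrFun (congrArg (fun g : GL (Fin 3) F => (g : Matrix (Fin 3) (Fin 3) F)) e) 0) 2
      simp [flip3_val, scl_val, dR_val, mul_apply, Fin.sum_univ_three, ha] at h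
  obtain ⟨hb0, hd0⟩ := htri
  obtain ⟨b, hbb⟩ : ∃ b, b = (g : Matrix (Fin 3) (Fin 3) F) 0 2 := ⟨_, rfl⟩
  obtain ⟨d, hdd⟩ : ∃ d, d = (g : Matrix (Fin 3) (Fin 3) F) 2 2 := ⟨_, rfl⟩
  rw [← hbb] at hb0
  rw [← hdd] at hd0
  refine ⟨d / b, div_ne_zero hd0 hb0, ?_, fun e => ?_, g, hgM, hB, ha, hbb ▸ hb0, hk', by
    rw [← hbb, ← hdd, div_mul_cancel₀ _ hb0]⟩
  · have r := entry_rel (hMJ hgM) 2 2
    simp [h12, ← hbb, ← hdd] at r
    have hσb : σ b ≠ 0 := (map_ne_zero σ).2 hb0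
    rw [map_div₀]
    field_simp
    linear_combination r
  · have hdet := (hMJ hgM).2
    rw [det_fin_three, h01, h12, h21, blk_entries h2 hB |>.2.1, hk', ← hbb, ← hdd] at hdet
    rw [div_eq_iff hb0] at e
    rw [e] at hdet
    refine one_ne_zero (α := F) ?_
    rw [← hdet]; ring

omit hb h2 hMJ hreal hT in
theorem pair_dR {k u : F} {l : Fˣ} (hl : dR l ∈ M) (h : Pair M k u) :
    Pair M (k / ((l : F) * l)) (u / ((l : F) * l)) := by
  obtain ⟨g, hg, hB, ha, hb, hk, hu⟩ := h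
  refine ⟨dR l * g, M.mul_mem hl hg, Subgroup.mul_mem _ (blk_dR l) hB, ?_, ?_, ?_, ?_⟩ <;>
    simp [dR_val, mul_apply, Fin.sum_univ_three, ha, hb, hk, hu] <;> field_simp

theorem pair_swap {k u : F} (h : Pair M k u) : Pair M u k := by
  obtain ⟨g, hg, hB, ha, hb, hk, hu⟩ := h
  refine ⟨g * flip3, M.mul_mem hg (hreal flip3_mem), Subgroup.mul_mem _ hB blk_flip3, ?_, ?_, ?_, ?_⟩ <;>
    simp [flip3_val, mul_apply, Fin.sum_univ_three, ha, hb, hk, hu]

theorem pair_unique {k u u' : F} (h : Pair M k u) (h' : Pair M k u') : u' = u := by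
  obtain ⟨g, hg, hB, ha, hb', hk, hu⟩ := h
  obtain ⟨g', hg', hB', ha', hb'', hk', hu'⟩ := h'
  obtain ⟨-, h10, -, -⟩ := blk_entries h2 hB
  obtain ⟨-, h10', -, -⟩ := blk_entries h2 hB'
  have hp : g⁻¹ * g' ∈ pStab F :=
    inv_mul_mem_pStab ((g' : Matrix (Fin 3) (Fin 3) F) 0 0 / (g : Matrix (Fin 3) (Fin 3) F) 0 0) fun i => by
      fin_cases i <;> simp [h10, h10', hk, hk', ha] <;> field_simp
  obtain ⟨z, l, -, e⟩ := blk_pStab hb h2 hMJ hreal hT (M.mul_mem (M.inv_mem hg) hg')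
    (Subgroup.mul_mem _ (Subgroup.inv_mem _ hB) hB') hp.2
  rw [inv_mul_eq_iff_eq_mul] at e
  rw [e] at hu' hb''
  simp [scl_val, dR_val, mul_apply, Fin.sum_univ_three, hu] at hu' hb''
  exact (mul_right_cancel₀ hb' (mul_right_cancel₀ z.ne_zero (mul_right_cancel₀ (inv_ne_zero l.ne_zero)
    (show u * (g : Matrix (Fin 3) (Fin 3) F) 0 2 * (z : F) * (l : F)⁻¹ =
      u' * (g : Matrix (Fin 3) (Fin 3) F) 0 2 * (z : F) * (l : F)⁻¹ by linear_combination hu')))).symm

include htr in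
/-- The slopes of a pair differ by a non-square. -/
theorem not_sq (hq : 7 ≤ q) {k u : F} (hσk : σ k = -k) (hσu : σ u = -u) (hk : k ≠ 0) (huk : u ≠ k)
    (h : Pair M k u) {ρ : F} (hρ : σ ρ = ρ) : u * (ρ * ρ) ≠ k := by
  classical
  intro he
  obtain ⟨g, hg, hB, ha, hb0, hk', hu'⟩ := h
  obtain ⟨h01, h10, h12, h21⟩ := blk_entries h2 hB
  have hρ0 : ρ ≠ 0 := fun e => hk (by rw [← he, e]; ring)
  set T := Finset.univ.filter fun e : F => σ e = e
  have hT' : q ≤ T.card := by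
    rw [← card_fixedSub hb, Nat.card_eq_fintype_card, Fintype.card_subtype]
    exact Finset.card_le_card fun x hx => hx
  obtain ⟨lm, hlm, hnot⟩ := Finset.exists_mem_notMem_of_card_lt_card
    (s := ({0, 1, -1, -ρ, -ρ⁻¹} : Finset F)) (t := T) (by
      refine lt_of_le_of_lt ((Finset.card_insert_le _ _).trans (Nat.succ_le_succ ((Finset.card_insert_le _ _).trans
        (Nat.succ_le_succ ((Finset.card_insert_le _ _).trans (Nat.succ_le_succ ((Finset.card_insert_le _ _).trans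
          (Nat.succ_le_succ (Finset.card_singleton _).le)))))))) ?_
      omega)
  have hσlm : σ lm = lm := (Finset.mem_filter.1 hlm).2
  simp only [Finset.mem_insert, Finset.mem_singleton, not_or] at hnot
  obtain ⟨n0, n1, n2, n3, n4⟩ := hnot
  have hden : lm + ρ ≠ 0 := fun e => n3 (by linear_combination e)
  have hnum : 1 + ρ * lm ≠ 0 := fun e => n4 (by field_simp; linear_combination e)
  obtain ⟨μ, hμ⟩ : ∃ μ, μ = (1 + ρ * lm) / (lm + ρ) := ⟨_, rfl⟩
  have hμ0 : μ ≠ 0 := hμ ▸ div_ne_zero hnum hden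
  have hσμ : σ μ = μ := by rw [hμ, map_div₀, map_add, map_add, map_mul, map_one, hρ, hσlm]
  have hrel : lm * μ - 1 = ρ * (lm - μ) := by rw [hμ]; field_simp; ring
  have hlm2 : lm * lm - 1 ≠ 0 := fun e =>
    (mul_self_eq_one_iff.1 (sub_eq_zero.1 e)).elim n1 n2
  have hlμ : lm - μ ≠ 0 := fun e => hlm2 (by
    have e' : lm * (lm + ρ) - (1 + ρ * lm) = (lm - μ) * (lm + ρ) := by rw [hμ]; field_simp
    rw [e, zero_mul] at e'
    linear_combination e')
  set L : Fˣ := Units.mk0 lm n0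
  set U : Fˣ := Units.mk0 μ hμ0
  set X := g * dR L * g⁻¹ * dR U with hX
  have hXM : X ∈ M := M.mul_mem (M.mul_mem (M.mul_mem hg (hreal (dR_mem hb hσlm))) (M.inv_mem hg))
    (hreal (dR_mem hb hσμ))
  -- a fixed isotropic vector of the chord
  obtain ⟨v, hv⟩ : ∃ v : Fin 3 → F, v = ![lm * lm - 1, 0, (lm - μ) * (k * lm + u * ρ)] := ⟨_, rfl⟩
  obtain ⟨y, hy⟩ : ∃ y : Fin 3 → F, y = ![(lm - μ) / (g : Matrix (Fin 3) (Fin 3) F) 0 0, 0,
      lm * (μ * lm - 1) / (g : Matrix (Fin 3) (Fin 3) F) 0 2] := ⟨_, rfl⟩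
  have hXv : (X : Matrix (Fin 3) (Fin 3) F) *ᵥ v = v := by
    have e1 : (dR U : Matrix (Fin 3) (Fin 3) F) *ᵥ v = (g : Matrix (Fin 3) (Fin 3) F) *ᵥ y := by
      rw [dR_val, hv, hy]
      funext i
      fin_cases i <;> simp [mulVec, dotProduct, Fin.sum_univ_three, U, h01, h10, h12, h21, hk', hu'] <;> field_simp
      · ring
      · linear_combination (-(lm - μ) ^ 2) * he - u * (ρ * (lm - μ) + lm * μ) * hrel
    have e2 : (g : Matrix (Fin 3) (Fin 3) F) *ᵥ ((dR L : Matrix (Fin 3) (Fin 3) F) *ᵥ y) = v := by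
      rw [dR_val, hv, hy]
      funext i
      fin_cases i <;> simp [mulVec, dotProduct, Fin.sum_univ_three, L, h01, h10, h12, h21, hk', hu'] <;> field_simp
      · ring
      · linear_combination u * hrel
    rw [hX, Units.val_mul, ← mulVec_mulVec, e1, mulVec_mulVec, ← Units.val_mul, inv_mul_cancel_right,
      Units.val_mul, ← mulVec_mulVec, e2]
  have hv0 : lm * lm - 1 ≠ 0 := hlm2
  have hkl : k * lm + u * ρ ≠ 0 := fun e => by
    rw [← he] at e
    have hu0 : u ≠ 0 := fun e => hk (by rw [← he, e, zero_mul])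
    exact hnum ((mul_eq_zero.1 (show u * ρ * (1 + ρ * lm) = 0 by linear_combination e)).resolve_left
      (mul_ne_zero hu0 hρ0))
  obtain ⟨k', hk'd⟩ : ∃ k', k' = v 2 / v 0 := ⟨_, rfl⟩
  have hk'0 : k' ≠ 0 := by rw [hk'd, hv]; simp [hlμ, hkl, hv0]
  have hk's : σ k' = -k' := by
    rw [hk'd, hv]; simp [hσlm, hσμ, hρ, hσk, hσu]; field_simp; ring
  obtain ⟨u', -, -, -, hh⟩ := exists_pair hb h2 hMJ hreal hT htr hk'0 hk's
  obtain ⟨h, hhM, hhB, hh0, -, hhk, -⟩ := hh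
  obtain ⟨-, hh10, -, -⟩ := blk_entries h2 hhB
  set Y := h⁻¹ * X * h with hY
  have hcolh : ∀ i, (h : Matrix (Fin 3) (Fin 3) F) i 0 = (h : Matrix (Fin 3) (Fin 3) F) 0 0 / v 0 * v i := fun i => by
    have : v 0 ≠ 0 := by rw [hv]; simpa using hv0
    fin_cases i <;> simp [hhk, hh10, hk'd]
    · field_simp
    · rw [hv]; simp
    · field_simp
  have hcol : ∀ i, (Y : Matrix (Fin 3) (Fin 3) F) i 0 = (1 : Matrix (Fin 3) (Fin 3) F) i 0 := fun i => by
    have e1 : ∀ j, ((X * h : GL (Fin 3) F) : Matrix (Fin 3) (Fin 3) F) j 0 = (h : Matrix (Fin 3) (Fin 3) F) j 0 := by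
      intro j
      rw [Units.val_mul, mul_apply, hcolh j, ← congrFun hXv j, mulVec, dotProduct, Finset.mul_sum]
      exact Finset.sum_congr rfl fun t _ => by rw [hcolh t]; ring
    rw [hY, mul_assoc, Units.val_mul, mul_apply]
    simp only [e1]
    exact congrFun (congrFun h.inv_mul i) 0
  have hYM : Y ∈ M := M.mul_mem (M.mul_mem (M.inv_mem hhM) hXM) hhM
  have hXB : IsBlk X := Subgroup.mul_mem _ (Subgroup.mul_mem _ (Subgroup.mul_mem _ hB (blk_dR L))
    (Subgroup.inv_mem _ hB)) (blk_dR U)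
  have hYB : IsBlk Y := Subgroup.mul_mem _ (Subgroup.mul_mem _ (Subgroup.inv_mem _ hhB) hXB) hhB
  have hYe := eq_uT hb (hMJ hYM) (by simp [hcol]) (by simp [hcol]) (by simp [hcol])
  rw [(blk_entries h2 hYB).2.2.1] at hYe
  have hs := hT _ (hYe ▸ hYM)
  rw [hs, uT_zero, hY] at hYe
  have hX1 : X = 1 := by
    rw [mul_assoc, inv_mul_eq_one] at hYe
    exact mul_eq_right.1 hYe.symm
  have hcomm : g * dR L = (dR U)⁻¹ * g := by
    rw [hX, mul_eq_one_iff_eq_inv, mul_inv_eq_iff_eq_mul] at hX1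
    exact hX1
  have hUinv : (dR U : GL (Fin 3) F)⁻¹ = dR U⁻¹ := inv_eq_of_mul_eq_one_right (Units.ext (by
    rw [Units.val_mul, dR_val, dR_val, Units.val_one]
    ext i j; fin_cases i <;> fin_cases j <;> simp [mul_apply, Fin.sum_univ_three]))
  rw [hUinv] at hcomm
  have c := congrArg (fun g : GL (Fin 3) F => (g : Matrix (Fin 3) (Fin 3) F)) hcomm
  have c0 := congrFun (congrFun c 0) 0
  have c2 := congrFun (congrFun c 0) 2
  simp [dR_val, mul_apply, Fin.sum_univ_three, L, U] at c0 c2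
  rw [mul_comm] at c2
  exact hlμ (sub_eq_zero.2 (inv_inj.1 (mul_right_cancel₀ hb0 c2)))

end CfsgLib.SUThree.Rational
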