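import Cfsg.Agent.SUThree.Rational.Point

/-!
# The root group from one transvection, the point stabiliser, and cosets
-/

set_option autoImplicit false
set_option linter.unusedSectionVars false

namespace CfsgLib.SUThree.Rational

open Matrix CfsgLib.MaxSub CfsgLib.MaxSub.Circle

variable {F : Type*} [Field F] [Fintype F] {q : ℕ} {σ : F ≃+* F} (hb : IsBar q σ)
  {M : Subgroup (GL (Fin 3) F)}

theorem dR_conj_uT (l : Fˣ) (c : F) : dR l * uT σ 0 c * (dR l)⁻¹ = uT σ 0 ((l : F) * l * c) := by
  rw [mul_inv_eq_iff_eq_mul]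
  refine Units.ext ?_
  rw [Units.val_mul, Units.val_mul, dR_val, uT_val, uT_val]
  ext i j; fin_cases i <;> fin_cases j <;> simp [mul_apply, Fin.sum_univ_three]
  field_simp

include hb in
/-- **One transvection gives the whole root group.** -/
theorem root_full (h2 : (2 : F) ≠ 0) (hMJ : M ≤ jGroup σ) (hreal : realGroup σ ≤ M) {c : F} (hc : c ≠ 0)
    (hcM : uT σ 0 c ∈ M) {x : F} (hx : σ x = -x) : uT σ 0 x ∈ M := by
  classical
  have hcs : c + σ c = 0 := by
    have h := entry_rel (hMJ hcM) 2 2
    simp [uT_val] at h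
    exact h
  have hσc : σ c = -c := by linear_combination hcs
  let S : AddSubgroup F :=
    { carrier := {e | σ e = e ∧ uT σ 0 (e * c) ∈ M}
      zero_mem' := ⟨map_zero σ, by rw [zero_mul, uT_zero]; exact M.one_mem⟩
      add_mem' := fun {a b} ha hb => ⟨by rw [map_add, ha.1, hb.1], by
        have := M.mul_mem ha.2 hb.2
        rw [uT_mul] at this
        convert this using 2 <;> simp <;> ring⟩
      neg_mem' := fun {a} ha => ⟨by rw [map_neg, ha.1], by
        have := M.inv_mem ha.2
        convert this using 1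
        refine eq_inv_of_mul_eq_one_left ?_
        rw [uT_mul, ← uT_zero (σ := σ)]
        congr 1 <;> simp⟩ }
  set T := Finset.univ.filter fun e : F => σ e = e
  have hT : q ≤ T.card := by
    rw [← card_fixedSub hb, Nat.card_eq_fintype_card, Fintype.card_subtype]
    exact Finset.card_le_card fun x hx => hx
  set s := T.image fun e => e * e
  have hs : ∀ e ∈ s, e ∈ S := by
    intro e he
    obtain ⟨l, hl, rfl⟩ := Finset.mem_image.1 he
    have hlf : σ l = l := (Finset.mem_filter.1 hl).2
    refine ⟨by rw [map_mul, hlf], ?_⟩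
    rcases eq_or_ne l 0 with rfl | hl0
    · rw [mul_zero, zero_mul, uT_zero]; exact M.one_mem
    have hd := hreal (dR_mem hb (l := Units.mk0 l hl0) hlf)
    have := M.mul_mem (M.mul_mem hd hcM) (M.inv_mem hd)
    rwa [dR_conj_uT] at this
  have hcard : q < 2 * s.card := by
    have h0 : (0 : F) ∈ T := Finset.mem_filter.2 ⟨Finset.mem_univ _, map_zero σ⟩
    have hfib : ∀ e ∈ s, (T.filter fun l => l * l = e).card ≤ if e = 0 then 1 else 2 := by
      intro e _
      rcases eq_or_ne e 0 with rfl | he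
      · rw [if_pos rfl]
        exact Finset.card_le_one.2 fun a ha b hb => by simp_all
      · rw [if_neg he]
        by_contra hlt
        push Not at hlt
        obtain ⟨a, b, d, ha, hb, hd, hab, had, hbd⟩ := Finset.two_lt_card_iff.1 hlt
        simp only [Finset.mem_filter] at ha hb hd
        have e1 := (mul_self_eq_mul_self_iff.1 (hb.2.trans ha.2.symm)).resolve_left (Ne.symm hab)
        have e2 := (mul_self_eq_mul_self_iff.1 (hd.2.trans ha.2.symm)).resolve_left (Ne.symm had)
        exact hbd (e1.trans e2.symm)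
    have h := Finset.card_eq_sum_card_image (fun l : F => l * l) T
    have h' := Finset.sum_le_sum hfib
    rw [← h] at h'
    have hmem : (0 : F) ∈ s := Finset.mem_image.2 ⟨0, h0, mul_zero 0⟩
    rw [← Finset.add_sum_erase _ _ hmem, if_pos rfl, Finset.sum_congr rfl
      (fun e he => if_neg (Finset.ne_of_mem_erase he)), Finset.sum_const, smul_eq_mul,
      Finset.card_erase_of_mem hmem] at h'
    have := Finset.card_pos.2 ⟨_, hmem⟩
    omega
  have := addSubgroup_full' hb S (fun e he => he.1) s hs hcard (e := x / c)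
    (by rw [map_div₀, hx, hσc, neg_div_neg_eq])
  simpa [div_mul_cancel₀ _ hc] using this.2

/-- The stabiliser of the point `⟨e₀⟩`. -/
def pStab (F : Type*) [Field F] [Fintype F] : Subgroup (GL (Fin 3) F) where
  carrier := {g | (g : Matrix (Fin 3) (Fin 3) F) 1 0 = 0 ∧ (g : Matrix (Fin 3) (Fin 3) F) 2 0 = 0}
  one_mem' := by simp
  mul_mem' := fun {a b} ha hb => by simp [mul_apply, Fin.sum_univ_three, ha.1, ha.2, hb.1, hb.2]
  inv_mem' := fun {a} ha => by
    have e : ∀ i, ((a⁻¹ : GL (Fin 3) F) : Matrix (Fin 3) (Fin 3) F) i 0 * (a : Matrix (Fin 3) (Fin 3) F) 0 0 =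
        (1 : Matrix (Fin 3) (Fin 3) F) i 0 := fun i => by
      have h := congrFun (congrFun a.inv_mul i) 0
      simpa [mul_apply, Fin.sum_univ_three, ha.1, ha.2] using h
    have h00 : (a : Matrix (Fin 3) (Fin 3) F) 0 0 ≠ 0 := fun h => by
      have := e 0
      simp [h] at this
    exact ⟨(mul_eq_zero.1 ((e 1).trans (by simp))).resolve_right h00,
      (mul_eq_zero.1 ((e 2).trans (by simp))).resolve_right h00⟩

theorem mem_pStab {g : GL (Fin 3) F} : g ∈ pStab F ↔
    (g : Matrix (Fin 3) (Fin 3) F) 1 0 = 0 ∧ (g : Matrix (Fin 3) (Fin 3) F) 2 0 = 0 := Iff.rfl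

theorem uT_mem_pStab (δ s : F) : uT σ δ s ∈ pStab F := by simp [mem_pStab, uT_val]

theorem dR_mem_pStab (l : Fˣ) : dR l ∈ pStab F := by simp [mem_pStab, dR_val]

/-- Two elements with proportional first columns differ by the point stabiliser. -/
theorem inv_mul_mem_pStab {g g' : GL (Fin 3) F} (c : F)
    (h : ∀ i, (g' : Matrix (Fin 3) (Fin 3) F) i 0 = c * (g : Matrix (Fin 3) (Fin 3) F) i 0) :
    g⁻¹ * g' ∈ pStab F := by
  have e : ∀ i, ((g⁻¹ * g' : GL (Fin 3) F) : Matrix (Fin 3) (Fin 3) F) i 0 =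
      c * (1 : Matrix (Fin 3) (Fin 3) F) i 0 := fun i => by
    have h1 := congrFun (congrFun g.inv_mul i) 0
    rw [mul_apply, Fin.sum_univ_three] at h1
    rw [Units.val_mul, mul_apply, Fin.sum_univ_three, h, h, h]
    linear_combination c * h1
  exact ⟨by simp [e], by simp [e]⟩

/-- Representatives of the rational points. -/
noncomputable def rep (σ : F ≃+* F) : Option (fixed σ) → GL (Fin 3) F
  | none => 1
  | some δ => uR σ δ * flip3

include hb in
theorem rep_mem (h2 : (2 : F) ≠ 0) : ∀ o, rep σ o ∈ realGroup σ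
  | none => Subgroup.one_mem _
  | some δ => Subgroup.mul_mem _ (uR_mem hb h2 δ.2) flip3_mem

theorem rep_col (δ : fixed σ) (i : Fin 3) : (rep σ (some δ) : Matrix (Fin 3) (Fin 3) F) i 0 =
    ![-((δ : F) * δ) / 2, (δ : F), 1] i := by
  rw [rep, Units.val_mul, uR, uT_val, flip3_val]
  fin_cases i <;> simp [mul_apply, Fin.sum_univ_three]

include hb in
/-- A rational isotropic vector is proportional to the first column of a representative. -/
theorem exists_rep (h2 : (2 : F) ≠ 0) {v : Fin 3 → F} (hiso : jf σ v v = 0) {d : F}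
    (hrat : ∀ i, σ (v i) = d * v i) : ∃ o c, ∀ i, v i = c * (rep σ o : Matrix (Fin 3) (Fin 3) F) i 0 := by
  rcases eq_or_ne (v 2) 0 with h | h
  · refine ⟨none, v 0, fun i => ?_⟩
    have := iso_cases hiso h
    fin_cases i <;> simp [rep, h, this]
  have hd : d ≠ 0 := fun e => h (by simpa [e] using hrat 2)
  have hfix : σ (v 1 / v 2) = v 1 / v 2 := by rw [map_div₀, hrat, hrat, mul_div_mul_left _ _ hd]
  refine ⟨some ⟨v 1 / v 2, hfix⟩, v 2, fun i => ?_⟩
  rw [rep_col]
  fin_cases i <;> simp <;> field_simp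
  have hi := hiso
  simp [jf, hrat] at hi
  refine mul_left_cancel₀ hd ?_
  linear_combination hi

include hb in
/-- The rational subgroup has `q + 1` points. -/
theorem relIndex_pStab (h2 : (2 : F) ≠ 0) : (pStab F).relIndex (realGroup σ) = q + 1 := by
  classical
  let f : Option (fixed σ) → ↥(realGroup σ) ⧸ (pStab F).subgroupOf (realGroup σ) :=
    fun o => QuotientGroup.mk ⟨rep σ o, rep_mem hb h2 o⟩
  have hkey : ∀ o o', f o = f o' → (rep σ o)⁻¹ * rep σ o' ∈ pStab F := fun o o' e => by
    have := QuotientGroup.eq.1 e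
    simpa [Subgroup.mem_subgroupOf] using this
  have hns : ∀ δ : fixed σ, rep σ (some δ) ∉ pStab F := fun δ h => by
    have := h.2
    rw [rep_col] at this
    simp at this
  have hbij : Function.Bijective f := by
    refine ⟨fun o o' e => ?_, fun x => ?_⟩
    · have h := hkey o o' e
      rcases o with _ | δ <;> rcases o' with _ | δ'
      · rfl
      · exact absurd (by simpa [rep] using h) (hns δ')
      · refine absurd ?_ (hns δ)
        simpa [rep] using (pStab F).inv_mem h
      · congr 1
        set k := (rep σ (some δ))⁻¹ * rep σ (some δ') with hk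
        have e1 : rep σ (some δ') = rep σ (some δ) * k := by rw [hk, mul_inv_cancel_left]
        have c : ∀ i, (rep σ (some δ') : Matrix (Fin 3) (Fin 3) F) i 0 =
            (rep σ (some δ) : Matrix (Fin 3) (Fin 3) F) i 0 * (k : Matrix (Fin 3) (Fin 3) F) 0 0 := fun i => by
          rw [e1, Units.val_mul, mul_apply, Fin.sum_univ_three, h.1, h.2, mul_zero, mul_zero, add_zero, add_zero]
        have c2 := c 2
        have c1 := c 1
        rw [rep_col, rep_col] at c1 c2
        simp at c1 c2
        rw [← c2, mul_one] at c1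
        exact Subtype.ext c1.symm
    · induction x using QuotientGroup.induction_on with
      | H g =>
        obtain ⟨hJ, z, A, hA, hz⟩ := g.2
        have hz0 : z ≠ 0 := fun e => (g : GL (Fin 3) F).ne_zero (by rw [hz, e, zero_smul])
        obtain ⟨o, c, hc⟩ := exists_rep hb h2 (v := fun i => ((g : GL (Fin 3) F) : Matrix (Fin 3) (Fin 3) F) i 0)
          (d := σ z / z) (by have := entry_rel hJ 0 0; simpa [jf] using this)
          (fun i => by simp only [hz, Matrix.smul_apply, smul_eq_mul, map_mul, hA]; field_simp)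
        refine ⟨o, QuotientGroup.eq.2 ?_⟩
        rw [Subgroup.mem_subgroupOf]
        exact inv_mul_mem_pStab c hc
  show Nat.card _ = _
  rw [← Nat.card_congr (Equiv.ofBijective f hbij), Finite.card_option, card_fixedSub hb]

/-- The triangular part of the rational subgroup. -/
noncomputable def sGroup (h2 : (2 : F) ≠ 0) (σ : F ≃+* F) : Subgroup (GL (Fin 3) F) where
  carrier := {g | ∃ (δ : F) (l : Fˣ), σ δ = δ ∧ σ (l : F) = l ∧ g = uR σ δ * dR l}
  one_mem' := ⟨0, 1, map_zero σ, map_one σ, by
    refine Units.ext ?_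
    rw [Units.val_mul, uR, uT_val, dR_val, Units.val_one]
    ext i j; fin_cases i <;> fin_cases j <;> simp [mul_apply, Fin.sum_univ_three]⟩
  mul_mem' := by
    rintro _ _ ⟨δ, l, hδ, hl, rfl⟩ ⟨δ', l', hδ', hl', rfl⟩
    refine ⟨δ + l * δ', l * l', by rw [map_add, map_mul, hδ, hl, hδ'],
      by rw [Units.val_mul, map_mul, hl, hl'], ?_⟩
    refine Units.ext ?_
    simp only [Units.val_mul, uR, uT_val, dR_val]
    ext i j
    fin_cases i <;> fin_cases j <;>
      simp [mul_apply, Fin.sum_univ_three, hδ, hδ', hl] <;> field_simp <;> ring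
  inv_mem' := by
    rintro _ ⟨δ, l, hδ, hl, rfl⟩
    refine ⟨-δ / l, l⁻¹, by rw [map_div₀, map_neg, hδ, hl], by rw [Units.val_inv_eq_inv_val, map_inv₀, hl], ?_⟩
    refine inv_eq_of_mul_eq_one_right (Units.ext ?_)
    simp only [Units.val_mul, uR, uT_val, dR_val, Units.val_one]
    ext i j
    fin_cases i <;> fin_cases j <;>
      simp [mul_apply, Fin.sum_univ_three, hδ, hl] <;> field_simp <;> ring

include hb in
theorem sGroup_le (h2 : (2 : F) ≠ 0) : sGroup h2 σ ≤ realGroup σ ⊓ pStab F := by
  rintro _ ⟨δ, l, hδ, hl, rfl⟩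
  exact ⟨Subgroup.mul_mem _ (uR_mem hb h2 hδ) (dR_mem hb hl),
    (pStab F).mul_mem (uT_mem_pStab _ _) (dR_mem_pStab l)⟩

include hb in
theorem card_sGroup (h2 : (2 : F) ≠ 0) : Nat.card (sGroup h2 σ) = q * (q - 1) := by
  classical
  have hu : Nat.card {l : Fˣ // σ (l : F) = l} = q - 1 := by
    have e : {l : Fˣ // σ (l : F) = l} ≃ {x : fixed σ // x ≠ 0} :=
      { toFun := fun l => ⟨⟨l.1, l.2⟩, fun h => l.1.ne_zero (congrArg Subtype.val h)⟩
        invFun := fun x => ⟨Units.mk0 x.1 fun h => x.2 (Subtype.ext h), x.1.2⟩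
        left_inv := fun l => Subtype.ext (Units.ext rfl)
        right_inv := fun x => rfl }
    rw [Nat.card_congr e, ← card_fixedSub hb, Nat.card_eq_fintype_card, Nat.card_eq_fintype_card,
      Fintype.card_subtype_compl, Fintype.card_subtype_eq]
  let f : fixed σ × {l : Fˣ // σ (l : F) = l} → sGroup h2 σ :=
    fun p => ⟨uR σ p.1 * dR p.2.1, p.1, p.2.1, p.1.2, p.2.2, rfl⟩
  have hbij : Function.Bijective f := by
    refine ⟨fun a b e => ?_, fun x => ?_⟩
    · have h := congrArg (fun g : sGroup h2 σ => ((g : GL (Fin 3) F) : Matrix (Fin 3) (Fin 3) F)) e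
      have hl := congrFun (congrFun h 0) 0
      have hd := congrFun (congrFun h 0) 1
      simp [f, uR, uT_val, dR_val, mul_apply, Fin.sum_univ_three, show σ (a.1 : F) = a.1 from a.1.2, show σ (b.1 : F) = b.1 from b.1.2] at hl hd
      exact Prod.ext (hd) (Subtype.ext (Units.ext hl))
    · obtain ⟨δ, l, hδ, hl, e⟩ := x.2
      exact ⟨(⟨δ, hδ⟩, ⟨l, hl⟩), Subtype.ext e.symm⟩
  rw [← Nat.card_congr (Equiv.ofBijective f hbij), Nat.card_prod, card_fixedSub hb, hu]

end CfsgLib.SUThree.Rational
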