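import Cfsg.Agent.SUThree.Rational.Coset
import Cfsg.Agent.SUThree.Semiregular

/-!
# Overgroups of the rational subgroup without transvections are transitive on isotropic points
-/

set_option autoImplicit false
set_option linter.unusedSectionVars false

namespace CfsgLib.SUThree.Rational

open Matrix CfsgLib.MaxSub CfsgLib.MaxSub.Circle

variable {F : Type*} [Field F] [Fintype F] {q : ℕ} {σ : F ≃+* F} (hb : IsBar q σ)
  {M : Subgroup (GL (Fin 3) F)}

/-- A real conjugate of a fixed triangular element has fixed entries. -/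
theorem fixed_entries_of_conj {m h : GL (Fin 3) F} {δ : F} {l : Fˣ} (hl : σ (l : F) = l)
    (hh : h ∈ realGroup σ) (hb : IsBar q σ) (e : h = m⁻¹ * (uR σ δ * dR l) * m) (i j : Fin 3) :
    σ ((h : Matrix (Fin 3) (Fin 3) F) i j) = (h : Matrix (Fin 3) (Fin 3) F) i j := by
  obtain ⟨hJ, z, A, hA, hz⟩ := hh
  have hz0 : z ≠ 0 := fun e => h.ne_zero (by rw [hz, e, zero_smul])
  have hσz : σ z ≠ 0 := (map_ne_zero σ).2 hz0
  have hdet : ∀ x : F, ((h : Matrix (Fin 3) (Fin 3) F) - x • 1).det = ((l : F) - x) * (1 - x) * ((l : F)⁻¹ - x) := by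
    intro x
    have e1 : (h : Matrix (Fin 3) (Fin 3) F) - x • 1 =
        ((m⁻¹ : GL (Fin 3) F) : Matrix (Fin 3) (Fin 3) F) *
          (((uR σ δ * dR l : GL (Fin 3) F) : Matrix (Fin 3) (Fin 3) F) - x • 1) * (m : Matrix (Fin 3) (Fin 3) F) := by
      rw [e, Units.val_mul, Units.val_mul, mul_sub, sub_mul, mul_smul_comm, smul_mul_assoc, mul_one,
        Units.inv_mul]
    rw [e1, det_units_conj', Units.val_mul, uR, uT_val, dR_val]
    simp [det_fin_three, mul_apply, Fin.sum_univ_three, Matrix.one_apply]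
  have h1 : (A - z⁻¹ • (1 : Matrix (Fin 3) (Fin 3) F)).det = 0 := by
    have := hdet 1
    rw [sub_self, mul_zero, zero_mul, hz, show z • A - (1 : F) • (1 : Matrix (Fin 3) (Fin 3) F) =
      z • (A - z⁻¹ • 1) by rw [smul_sub, smul_smul, mul_inv_cancel₀ hz0], det_smul] at this
    exact (mul_eq_zero.1 this).resolve_left (pow_ne_zero _ hz0)
  have h2 : (A - (σ z)⁻¹ • (1 : Matrix (Fin 3) (Fin 3) F)).det = 0 := by
    have := congrArg σ h1
    rw [RingEquiv.map_det, map_zero, RingEquiv.mapMatrix_apply] at this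
    convert this using 2
    ext i j
    simp [hA, Matrix.one_apply, apply_ite σ]
  obtain ⟨x, hx⟩ : ∃ x, x = z / σ z := ⟨_, rfl⟩
  have h3 := hdet x
  rw [hz, show z • A - x • (1 : Matrix (Fin 3) (Fin 3) F) = z • (A - (σ z)⁻¹ • 1) by
    rw [smul_sub, smul_smul, hx, div_eq_mul_inv], det_smul, h2, mul_zero, eq_comm, mul_eq_zero, mul_eq_zero,
    sub_eq_zero, sub_eq_zero, sub_eq_zero] at h3
  have hxf : σ x = x := by
    rcases h3 with (h3 | h3) | h3 <;> rw [← h3]
    · exact hl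
    · exact map_one σ
    · rw [map_inv₀, hl]
  have hz3 : z ^ 3 * A.det = 1 := by simpa [hz, det_smul] using hJ.2
  have hz3' : (σ z) ^ 3 * A.det = 1 := by
    have := congrArg σ hz3
    rw [map_mul, map_pow, map_one, RingEquiv.map_det, RingEquiv.mapMatrix_apply,
      show A.map σ = A from Matrix.ext hA] at this
    exact this
  have hx2 : x * x = 1 := by
    nth_rewrite 2 [← hxf]
    rw [hx, map_div₀, hb.involutive]
    field_simp
  have hx3 : x ^ 3 = 1 := by
    rw [hx, div_pow, div_eq_one_iff_eq (pow_ne_zero _ hσz)]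
    exact mul_right_cancel₀ (right_ne_zero_of_mul_eq_one hz3) (hz3.trans hz3'.symm)
  have hx1 : x = 1 := by linear_combination hx3 - x * hx2
  rw [hx, div_eq_one_iff_eq hσz] at hx1
  rw [hz, Matrix.smul_apply, smul_eq_mul, map_mul, hA, ← hx1]

variable (h2 : (2 : F) ≠ 0) (hMJ : M ≤ jGroup σ) (hreal : realGroup σ ≤ M) (hT : NoRoot σ M)

include hb h2 hMJ hreal hT

theorem inf_pStab_le : M ⊓ pStab F ≤ realGroup σ := by
  rintro g ⟨hg, h10, h20⟩
  obtain ⟨z, δ, l, hδ, hl, hz, rfl⟩ := point_form hb h2 hreal hT hMJ hg h10 h20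
  exact Subgroup.mul_mem _ hz (Subgroup.mul_mem _ (uR_mem hb h2 hδ) (dR_mem hb hl))

/-- A regular triangular element fixes no coset of the rational subgroup but the base one. -/
theorem mem_real_of_conj {m : GL (Fin 3) F} (hm : m ∈ M) {δ : F} {l : Fˣ} (hl : σ (l : F) = l)
    (hreg : (l : F) * l ≠ 1 ∨ ((l : F) = 1 ∧ δ ≠ 0)) (hδ : σ δ = δ)
    (hc : m⁻¹ * (uR σ δ * dR l) * m ∈ realGroup σ) : m ∈ realGroup σ := by
  set h := m⁻¹ * (uR σ δ * dR l) * m with hh
  have hfix := fixed_entries_of_conj hl hc hb hh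
  obtain ⟨v, hv⟩ : ∃ v : Fin 3 → F, v = fun i => ((m⁻¹ : GL (Fin 3) F) : Matrix (Fin 3) (Fin 3) F) i 0 := ⟨_, rfl⟩
  have hcol : ∀ i, ((h * m⁻¹ : GL (Fin 3) F) : Matrix (Fin 3) (Fin 3) F) i 0 = v i * l := fun i => by
    rw [hh, mul_inv_cancel_right, Units.val_mul, Units.val_mul, uR, uT_val, dR_val, hv]
    simp [mul_apply, Fin.sum_univ_three]
  have hσ : ((h : Matrix (Fin 3) (Fin 3) F) *ᵥ fun i => σ (v i)) = (l : F) • fun i => σ (v i) := funext fun i => by
    have := congrArg σ (hcol i)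
    rw [Units.val_mul, mul_apply, map_sum, map_mul, hl] at this
    simp only [map_mul, hfix] at this
    rw [Pi.smul_apply, smul_eq_mul, mul_comm, ← this, hv]
    rfl
  obtain ⟨w, hw⟩ : ∃ w, w = (m : Matrix (Fin 3) (Fin 3) F) *ᵥ fun i => σ (v i) := ⟨_, rfl⟩
  have hsw : (((uR σ δ * dR l : GL (Fin 3) F) : Matrix (Fin 3) (Fin 3) F) *ᵥ w) = (l : F) • w := by
    rw [hw, ← mulVec_smul, ← hσ, mulVec_mulVec, mulVec_mulVec, ← Units.val_mul, ← Units.val_mul, hh,
      mul_assoc m⁻¹, mul_inv_cancel_left]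
  rw [Units.val_mul, uR, uT_val, dR_val, hδ] at hsw
  have e0 := congrFun hsw 0
  have e1 := congrFun hsw 1
  have e2 := congrFun hsw 2
  simp [mulVec, dotProduct, mul_apply, Fin.sum_univ_three] at e0 e1 e2
  have hw12 : w 1 = 0 ∧ w 2 = 0 := by
    rcases hreg with hr | ⟨h1, hd⟩
    · have hw2 : w 2 = 0 := by
        by_contra h
        refine hr ?_
        field_simp at e2
        linear_combination -(e2.resolve_right h)
      refine ⟨?_, hw2⟩
      rw [hw2, mul_zero, add_zero] at e1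
      by_contra h
      exact hr (by rw [← mul_right_cancel₀ h (show 1 * w 1 = (l : F) * w 1 by rw [one_mul]; exact e1), mul_one])
    · rw [h1, inv_one, mul_one, one_mul] at e1
      have hw2 : w 2 = 0 := (mul_eq_zero.1 (show δ * w 2 = 0 by linear_combination e1)).resolve_left hd
      refine ⟨?_, hw2⟩
      rw [h1, hw2, mul_zero, add_zero] at e0
      exact (mul_eq_zero.1 (show δ * w 1 = 0 by linear_combination -e0)).resolve_left hd
  have hrat : ∀ i, σ (v i) = w 0 * v i := fun i => by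
    have : ((m⁻¹ : GL (Fin 3) F) : Matrix (Fin 3) (Fin 3) F) *ᵥ w = fun i => σ (v i) := by
      rw [hw, mulVec_mulVec, Units.inv_mul, one_mulVec]
    rw [← congrFun this i, hv]
    simp [mulVec, dotProduct, Fin.sum_univ_three, hw12.1, hw12.2, mul_comm]
  obtain ⟨o, c, hc⟩ := exists_rep hb h2 (v := v)
    (by rw [hv]; have := entry_rel (hMJ (M.inv_mem hm)) 0 0; simpa [jf] using this) hrat
  have hp : (rep σ o)⁻¹ * m⁻¹ ∈ pStab F := inv_mul_mem_pStab c fun i => by rw [← hc, hv]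
  have hmem : (rep σ o)⁻¹ * m⁻¹ ∈ realGroup σ := inf_pStab_le hb h2 hMJ hreal hT
    ⟨M.mul_mem (M.inv_mem (hreal (rep_mem hb h2 o))) (M.inv_mem hm), hp⟩
  have := Subgroup.inv_mem _ (Subgroup.mul_mem _ (rep_mem hb h2 o) hmem)
  rwa [mul_inv_cancel_left, inv_inv] at this

theorem dvd_two_mul : q * (q - 1) ∣ 2 * ((realGroup σ).relIndex M - 1) := by
  rw [← card_sGroup hb h2]
  refine card_dvd_mul_relIndex_sub_one ((sGroup_le hb h2).trans inf_le_left) hreal fun m hm hmn => ?_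
  set T := sGroup h2 σ ⊓ (realGroup σ).map (MulAut.conj m).toMonoidHom
  have hform : ∀ t ∈ T, t = 1 ∨ ∃ δ : F, σ δ = δ ∧ t = uR σ δ * dR (-1) := by
    rintro t ⟨⟨δ, l, hδ, hl, rfl⟩, h, hh, e⟩
    have e' : h = m⁻¹ * (uR σ δ * dR l) * m := by
      rw [← e]; simp [mul_assoc]
    have hnr : ¬ ((l : F) * l ≠ 1 ∨ ((l : F) = 1 ∧ δ ≠ 0)) := fun hr =>
      hmn (mem_real_of_conj hb h2 hMJ hreal hT hm hl hr hδ (e' ▸ hh))
    push Not at hnr
    rcases mul_self_eq_one_iff.1 hnr.1 with h1 | h1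
    · left
      rw [hnr.2 h1]
      refine Units.ext ?_
      rw [Units.val_mul, uR, uT_val, dR_val, Units.val_one, h1]
      ext i j; fin_cases i <;> fin_cases j <;> simp [mul_apply, Fin.sum_univ_three]
    · exact Or.inr ⟨δ, hδ, by rw [show l = -1 from Units.ext (by simpa using h1)]⟩
  have hmul : ∀ δ δ' : F, σ δ = δ → σ δ' = δ' →
      uR σ δ * dR (-1) * (uR σ δ' * dR (-1)) = uR σ (δ - δ') := fun δ δ' hδ hδ' => by
    refine Units.ext ?_
    simp only [Units.val_mul, uR, uT_val, dR_val]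
    ext i j; fin_cases i <;> fin_cases j <;> simp [mul_apply, Fin.sum_univ_three, hδ, hδ'] <;> field_simp <;> ring
  have hne : ∀ δ : F, uR σ δ = 1 → δ = 0 := fun δ h => by
    rw [uR, ← uT_zero (σ := σ)] at h
    exact (uT_inj h).1
  have hone : ∀ δ : F, σ δ = δ → ∀ δ' : F, σ δ' = δ' → uR σ δ * dR (-1) ∈ T → uR σ δ' * dR (-1) ∈ T → δ = δ' := by
    intro δ hδ δ' hδ' ht ht'
    have hp := T.mul_mem ht ht'
    rw [hmul δ δ' hδ hδ'] at hp
    rcases hform _ hp with h | ⟨e, he, h⟩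
    · exact sub_eq_zero.1 (hne _ h)
    · exfalso
      have h' := congrFun (congrFun (congrArg (fun g : GL (Fin 3) F => (g : Matrix (Fin 3) (Fin 3) F)) h) 0) 0
      simp [uR, uT_val, dR_val, mul_apply, Fin.sum_univ_three] at h'
      exact h2 (by linear_combination h')
  by_cases hbot : ∀ t ∈ T, t = 1
  · rw [(Subgroup.eq_bot_iff_forall _).2 hbot, Subgroup.card_bot]; exact one_dvd _
  push Not at hbot
  obtain ⟨t, ht, ht1⟩ := hbot
  obtain ⟨δ, hδ, rfl⟩ := (hform t ht).resolve_left ht1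
  have hle : T ≤ Subgroup.zpowers (uR σ δ * dR (-1)) := fun x hx => by
    rcases hform x hx with rfl | ⟨δ', hδ', rfl⟩
    · exact Subgroup.one_mem _
    · rw [hone δ' hδ' δ hδ hx ht]; exact Subgroup.mem_zpowers _
  refine (Subgroup.card_dvd_of_le hle).trans ?_
  rw [Nat.card_zpowers]
  refine orderOf_dvd_of_pow_eq_one ?_
  rw [pow_two, hmul δ δ hδ hδ, sub_self, uR, ← uT_zero (σ := σ)]
  simp

/-- **Transitivity**: an overgroup of the rational subgroup without transvections has index `q² - q + 1`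
over it and moves `e₀` to every isotropic point. -/
theorem transitive (hq : 7 ≤ q) (hodd : Odd q) (hdvd : Nat.card M ∣ q ^ 3 * (q ^ 2 - 1) * (q ^ 3 + 1))
    (hne : ∃ g ∈ M, g ∉ realGroup σ) :
    (∃ n k, n + q = q ^ 2 + 1 ∧ (realGroup σ).relIndex M = n ∧ q * (q - 1) ∣ k ∧
      Nat.card (realGroup σ) = (q + 1) * k ∧ Nat.card M = n * ((q + 1) * k) ∧
      Nat.card ↥(realGroup σ ⊓ pStab F) = k) ∧
    ∀ a b : F, a + σ a = -(b * σ b) → ∃ g ∈ M, (g : Matrix (Fin 3) (Fin 3) F) 2 0 ≠ 0 ∧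
      (g : Matrix (Fin 3) (Fin 3) F) 0 0 = a * (g : Matrix (Fin 3) (Fin 3) F) 2 0 ∧
      (g : Matrix (Fin 3) (Fin 3) F) 1 0 = b * (g : Matrix (Fin 3) (Fin 3) F) 2 0 := by
  classical
  set n := (realGroup σ).relIndex M with hn
  have hpos : n ≠ 0 := Subgroup.FiniteIndex.index_ne_zero
  have hn1 : n ≠ 1 := fun h => by
    obtain ⟨g, hg, hg'⟩ := hne
    exact hg' (Subgroup.relIndex_eq_one.1 h hg)
  have hMp : M ⊓ pStab F = realGroup σ ⊓ pStab F :=
    le_antisymm (le_inf (inf_pStab_le hb h2 hMJ hreal hT) inf_le_right) (inf_le_inf_right _ hreal)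
  have hrel : (pStab F).relIndex M = n * (q + 1) := by
    rw [← Subgroup.inf_relIndex_left, hMp, ← Subgroup.relIndex_mul_relIndex _ (realGroup σ) _ inf_le_left hreal,
      Subgroup.inf_relIndex_left, relIndex_pStab hb h2, mul_comm]
  set k := Nat.card ↥(realGroup σ ⊓ pStab F) with hk
  have hcard : ∀ K L : Subgroup (GL (Fin 3) F), K ≤ L → Nat.card K * K.relIndex L = Nat.card L := fun K L h => by
    rw [← Nat.card_congr (Subgroup.subgroupOfEquivOfLe h).toEquiv]
    exact Subgroup.card_mul_index _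
  have hcR : Nat.card (realGroup σ) = (q + 1) * k := by
    rw [← hcard _ _ (inf_le_left : realGroup σ ⊓ pStab F ≤ realGroup σ), Subgroup.inf_relIndex_left,
      relIndex_pStab hb h2, mul_comm, hk]
  have hcM : Nat.card M = n * ((q + 1) * k) := by rw [← hcard _ _ hreal, hcR, mul_comm]
  have hkdvd : q * (q - 1) ∣ k := card_sGroup hb h2 ▸ Subgroup.card_dvd_of_le (sGroup_le hb h2)
  -- the orbit of the point
  let P := {p : F × F // p.1 + σ p.1 = -(p.2 * σ p.2)}
  have hiso : ∀ g ∈ M, (g : Matrix (Fin 3) (Fin 3) F) 2 0 ≠ 0 →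
      (g : Matrix (Fin 3) (Fin 3) F) 0 0 / (g : Matrix (Fin 3) (Fin 3) F) 2 0 +
        σ ((g : Matrix (Fin 3) (Fin 3) F) 0 0 / (g : Matrix (Fin 3) (Fin 3) F) 2 0) =
      -((g : Matrix (Fin 3) (Fin 3) F) 1 0 / (g : Matrix (Fin 3) (Fin 3) F) 2 0 *
        σ ((g : Matrix (Fin 3) (Fin 3) F) 1 0 / (g : Matrix (Fin 3) (Fin 3) F) 2 0)) := fun g hg h => by
    have h0 := entry_rel (hMJ hg) 0 0
    simp at h0
    have hσ : σ ((g : Matrix (Fin 3) (Fin 3) F) 2 0) ≠ 0 := (map_ne_zero σ).2 h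
    rw [map_div₀, map_div₀]
    field_simp
    linear_combination h0
  let φ : ↥M ⧸ (pStab F).subgroupOf M → Option P := fun x =>
    if h : ((x.out : M) : GL (Fin 3) F).1 2 0 = 0 then none
    else some ⟨(_, _), hiso _ x.out.2 h⟩
  have hφ : Function.Injective φ := fun x y e => by
    rw [← QuotientGroup.out_eq' x, ← QuotientGroup.out_eq' y, QuotientGroup.eq, Subgroup.mem_subgroupOf,
      Subgroup.coe_mul, Subgroup.coe_inv]
    obtain ⟨g, hg⟩ : ∃ g : GL (Fin 3) F, g = (x.out : M) := ⟨_, rfl⟩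
    obtain ⟨g', hg'⟩ : ∃ g : GL (Fin 3) F, g = (y.out : M) := ⟨_, rfl⟩
    simp only [φ, ← hg, ← hg'] at e
    rw [← hg, ← hg']
    by_cases hx : (g : Matrix (Fin 3) (Fin 3) F) 2 0 = 0 <;> by_cases hy : (g' : Matrix (Fin 3) (Fin 3) F) 2 0 = 0
    · have iso : ∀ a : GL (Fin 3) F, a ∈ M → (a : Matrix (Fin 3) (Fin 3) F) 2 0 = 0 → a ∈ pStab F := fun a ha h => by
        have h0 := entry_rel (hMJ ha) 0 0
        simp [h] at h0
        exact ⟨h0, h⟩
      exact (pStab F).mul_mem ((pStab F).inv_mem (iso g (hg ▸ x.out.2) hx)) (iso g' (hg' ▸ y.out.2) hy)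
    · simp [hx, hy] at e
    · simp [hx, hy] at e
    · simp only [hx, hy, dite_false, Option.some.injEq, Subtype.mk.injEq, Prod.mk.injEq] at e
      refine inv_mul_mem_pStab ((g' : Matrix (Fin 3) (Fin 3) F) 2 0 / (g : Matrix (Fin 3) (Fin 3) F) 2 0) fun i => ?_
      have e1 := congrArg (fun p : P => p.1.1) e
      have e2 := congrArg (fun p : P => p.1.2) e
      simp only at e1 e2
      rw [div_eq_div_iff hx hy] at e1 e2
      rw [div_mul_eq_mul_div, eq_div_iff hx]
      fin_cases i <;> simp only [Fin.zero_eta, Fin.mk_one, Fin.reduceFinMk]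
      · linear_combination -e1
      · linear_combination -e2
  have hP : Nat.card (Option P) ≤ q ^ 3 + 1 := by
    rw [Finite.card_option]
    refine Nat.succ_le_succ ?_
    refine (Nat.card_le_card_of_injective (fun p : P => (⟨p.1.2, p.1.1, p.2⟩ :
      Σ b : F, {a : F // a + σ a = -(b * σ b)})) fun p r e => ?_).trans ?_
    · exact Subtype.ext (congrArg (fun x : Σ b : F, {a : F // a + σ a = -(b * σ b)} => ((x.2 : F), x.1)) e)
    · rw [Nat.card_sigma]
      refine (Finset.sum_le_card_nsmul _ _ q fun b _ => card_norm_fibre hb _).trans ?_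
      rw [Finset.card_univ, hb.card, smul_eq_mul, ← pow_succ]
  have hle : n * (q + 1) ≤ q ^ 3 + 1 := by
    rw [← hrel]
    exact (Nat.card_le_card_of_injective φ hφ).trans hP
  have hnN : n + q ≤ q ^ 2 + 1 := by
    have : q * q + 1 ≥ q := by nlinarith
    by_contra hlt
    push Not at hlt
    have := Nat.mul_le_mul_right (q + 1) (show q ^ 2 + 2 ≤ n + q by omega)
    nlinarith
  obtain ⟨j, hj⟩ := dvd_two_mul hb h2 hMJ hreal hT
  rw [← hn] at hj
  have heq : n + q = q ^ 2 + 1 := by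
    have hlt : q * (q - 1) + q = q * q := by
      rw [← Nat.mul_succ]; congr 1; omega
    rw [pow_two] at hnN ⊢
    have hj2 : j ≤ 2 := by
      by_contra h
      have := Nat.mul_le_mul_left (q * (q - 1)) (show 3 ≤ j by omega)
      have : 1 ≤ q * (q - 1) := Nat.one_le_iff_ne_zero.2 (Nat.mul_ne_zero (by omega) (by omega))
      omega
    interval_cases j
    · omega
    · exfalso
      have h2n : 2 * n + q = q ^ 2 + 2 := by rw [pow_two]; omega
      have hdvd' : n * (q + 1) * (q * (q - 1)) ∣ q ^ 3 * (q ^ 2 - 1) * (q ^ 3 + 1) := by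
        refine dvd_trans ?_ hdvd
        rw [hcM, ← mul_assoc n]
        exact Nat.mul_dvd_mul_left (n * (q + 1)) hkdvd
      have hsq : q ^ 2 - 1 = (q + 1) * (q - 1) := by rw [← Nat.sq_sub_sq, one_pow]
      rw [hsq, show n * (q + 1) * (q * (q - 1)) = n * ((q + 1) * (q - 1) * q) by ring,
        show q ^ 3 * ((q + 1) * (q - 1)) * (q ^ 3 + 1) = q ^ 2 * (q ^ 3 + 1) * ((q + 1) * (q - 1) * q) by ring] at hdvd'
      have hd1 := Nat.dvd_of_mul_dvd_mul_right (Nat.mul_pos (Nat.mul_pos (by omega) (by omega)) (by omega)) hdvd'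
      obtain ⟨t, ht⟩ := hodd
      have hcop : Nat.Coprime n q := by
        refine Nat.coprime_of_dvd fun p hp hpn hpq => ?_
        have h1 : p ∣ 2 := by
          have : p ∣ 2 * n + q := dvd_add (hpn.mul_left 2) hpq
          rw [h2n] at this
          exact (Nat.dvd_add_right (dvd_pow hpq two_ne_zero)).1 this
        rw [(Nat.prime_dvd_prime_iff_eq hp Nat.prime_two).1 h1] at hpq
        omega
      have hd2 := (hcop.pow_right 2).dvd_of_dvd_mul_left hd1
      obtain ⟨N, hN⟩ : ∃ N, N + q = q ^ 2 + 1 := ⟨q ^ 2 + 1 - q, by rw [pow_two]; omega⟩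
      have hfac : q ^ 3 + 1 = (q + 1) * N := by nlinarith
      have hcop' : Nat.Coprime n N := by
        refine Nat.coprime_of_dvd fun p hp hpn hpN => ?_
        have h1 : p ∣ N + 1 := by rw [show N + 1 = 2 * n by omega]; exact hpn.mul_left 2
        exact hp.not_dvd_one ((Nat.dvd_add_right hpN).1 h1)
      rw [hfac] at hd2
      have := Nat.le_of_dvd (by omega) (hcop'.dvd_of_dvd_mul_right hd2)
      nlinarith
    · omega
  refine ⟨⟨n, k, heq, rfl, hkdvd, hcR, hcM, rfl⟩, fun a b hab => ?_⟩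
  have hbij : Function.Bijective φ := by
    rw [Nat.bijective_iff_injective_and_card]
    refine ⟨hφ, le_antisymm (Nat.card_le_card_of_injective φ hφ) (hP.trans ?_)⟩
    show _ ≤ (pStab F).relIndex M
    rw [hrel]
    nlinarith
  obtain ⟨x, hx⟩ := hbij.2 (some ⟨(a, b), hab⟩)
  simp only [φ] at hx
  by_cases h : ((x.out : M) : GL (Fin 3) F).1 2 0 = 0
  · simp [h] at hx
  · simp only [h, dite_false, Option.some.injEq] at hx
    exact ⟨_, x.out.2, h, (div_eq_iff h).1 (congrArg (fun p : P => p.1.1) hx),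
      (div_eq_iff h).1 (congrArg (fun p : P => p.1.2) hx)⟩

end CfsgLib.SUThree.Rational
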