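import Cfsg.Agent.SUThree.Decomp.Field
import Cfsg.Prelude.Def_GeometricClasses

/-!
# Hyperbolic coordinates: the isometries of `x₀ σy₂ + x₁ σy₁ + x₂ σy₀` and their rational subgroup

`realGroup σ` consists of the determinant-one isometries that are scalar multiples of matrices with fixed entries.
-/

set_option autoImplicit false
set_option linter.unusedSectionVars false

namespace CfsgLib.SUThree.Rational

open Matrix CfsgLib.MaxSub CfsgLib.MaxSub.Circle

variable {F : Type*} [Field F] [Fintype F] {q : ℕ} {σ : F ≃+* F}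

/-- The hyperbolic form. -/
def jf (σ : F ≃+* F) (x y : Fin 3 → F) : F := x 0 * σ (y 2) + x 1 * σ (y 1) + x 2 * σ (y 0)

/-- Its isometries of determinant one. -/
def jGroup (σ : F ≃+* F) : Subgroup (GL (Fin 3) F) where
  carrier := {g | (∀ x y, jf σ ((g : Matrix (Fin 3) (Fin 3) F) *ᵥ x) ((g : Matrix (Fin 3) (Fin 3) F) *ᵥ y) = jf σ x y) ∧
    (g : Matrix (Fin 3) (Fin 3) F).det = 1}
  one_mem' := ⟨fun x y => by rw [Units.val_one, one_mulVec, one_mulVec], by rw [Units.val_one, det_one]⟩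
  mul_mem' := fun {a b} ha hb => ⟨fun x y => by
    rw [Units.val_mul, ← mulVec_mulVec, ← mulVec_mulVec, ha.1, hb.1], by rw [Units.val_mul, det_mul, ha.2, hb.2, one_mul]⟩
  inv_mem' := fun {a} ha => ⟨fun x y => by
    rw [← ha.1, mulVec_mulVec, mulVec_mulVec, Units.mul_inv, one_mulVec, one_mulVec], by
    have h := congrArg Matrix.det (a.mul_inv)
    rwa [det_mul, ha.2, one_mul, det_one] at h⟩

theorem mem_jGroup {g : GL (Fin 3) F} : g ∈ jGroup σ ↔
    (∀ x y, jf σ ((g : Matrix (Fin 3) (Fin 3) F) *ᵥ x) ((g : Matrix (Fin 3) (Fin 3) F) *ᵥ y) = jf σ x y) ∧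
    (g : Matrix (Fin 3) (Fin 3) F).det = 1 := Iff.rfl

/-- Scalar multiples of fixed matrices. -/
def IsReal (σ : F ≃+* F) (g : GL (Fin 3) F) : Prop :=
  ∃ (z : F) (A : Matrix (Fin 3) (Fin 3) F), (∀ i j, σ (A i j) = A i j) ∧ (g : Matrix (Fin 3) (Fin 3) F) = z • A

theorem isReal_mul {a b : GL (Fin 3) F} (ha : IsReal σ a) (hb : IsReal σ b) : IsReal σ (a * b) := by
  obtain ⟨z, A, hA, ha⟩ := ha
  obtain ⟨z', B, hB, hb⟩ := hb
  refine ⟨z * z', A * B, fun i j => ?_, by rw [Units.val_mul, ha, hb, smul_mul_smul_comm]⟩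
  simp [mul_apply, map_sum, map_mul, hA, hB]

theorem isReal_inv {a : GL (Fin 3) F} (ha : IsReal σ a) : IsReal σ a⁻¹ := by
  obtain ⟨z, A, hA, ha⟩ := ha
  have hz : z ≠ 0 := fun h => a.ne_zero (by rw [ha, h, zero_smul])
  refine ⟨z⁻¹, A⁻¹, fun i j => ?_, ?_⟩
  · have hmap : A.map σ = A := Matrix.ext hA
    rw [Matrix.inv_def, Matrix.smul_apply, smul_eq_mul, map_mul, Ring.inverse_eq_inv', map_inv₀,
      RingEquiv.map_det, RingEquiv.mapMatrix_apply, hmap]
    congr 1
    show (A.adjugate.map σ) i j = _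
    have h := RingHom.map_adjugate (σ : F →+* F) A
    simp only [RingHom.mapMatrix_apply] at h
    rw [show A.adjugate.map σ = A.adjugate.map ⇑(σ : F →+* F) from rfl, h, show A.map ⇑(σ : F →+* F) = A from hmap]
  · have h1 := a.mul_inv
    rw [ha, smul_mul_assoc, ← mul_smul_comm] at h1
    have hinv : A⁻¹ = z • ((a⁻¹ : GL (Fin 3) F) : Matrix (Fin 3) (Fin 3) F) := Matrix.inv_eq_right_inv h1
    rw [hinv, inv_smul_smul₀ hz]

/-- The rational subgroup. -/
def realGroup (σ : F ≃+* F) : Subgroup (GL (Fin 3) F) where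
  carrier := {g | g ∈ jGroup σ ∧ IsReal σ g}
  one_mem' := ⟨Subgroup.one_mem _, 1, 1, fun i j => by rw [one_apply]; split_ifs <;> simp, by simp⟩
  mul_mem' := fun {a b} ha hb => ⟨Subgroup.mul_mem _ ha.1 hb.1, isReal_mul ha.2 hb.2⟩
  inv_mem' := fun {a} ha => ⟨Subgroup.inv_mem _ ha.1, isReal_inv ha.2⟩

theorem mem_realGroup {g : GL (Fin 3) F} : g ∈ realGroup σ ↔ g ∈ jGroup σ ∧ IsReal σ g := Iff.rfl

/-- A unitriangular isometry. -/
noncomputable def uT (σ : F ≃+* F) (δ s : F) : GL (Fin 3) F :=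
  GeneralLinearGroup.mkOfDetNeZero !![1, -σ δ, s; 0, 1, δ; 0, 0, 1] (by simp [det_fin_three])

theorem uT_val (δ s : F) :
    ((uT σ δ s : GL (Fin 3) F) : Matrix (Fin 3) (Fin 3) F) = !![1, -σ δ, s; 0, 1, δ; 0, 0, 1] := rfl

theorem uT_mul (δ s δ' s' : F) : uT σ δ s * uT σ δ' s' = uT σ (δ + δ') (s + s' - σ δ * δ') := by
  refine Units.ext ?_
  rw [Units.val_mul, uT_val, uT_val, uT_val]
  ext i j; fin_cases i <;> fin_cases j <;> simp [mul_apply, Fin.sum_univ_three] <;> ring

theorem uT_zero : uT σ 0 0 = 1 := by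
  refine Units.ext ?_
  rw [uT_val, Units.val_one]
  ext i j; fin_cases i <;> fin_cases j <;> simp

theorem uT_inj {δ s δ' s' : F} (h : uT σ δ s = uT σ δ' s') : δ = δ' ∧ s = s' := by
  have e : ∀ i j, ((uT σ δ s : GL (Fin 3) F) : Matrix (Fin 3) (Fin 3) F) i j =
      ((uT σ δ' s' : GL (Fin 3) F) : Matrix (Fin 3) (Fin 3) F) i j := fun i j => by rw [h]
  have h1 := e 1 2
  have h2 := e 0 2
  simp [uT_val] at h1 h2
  exact ⟨h1, h2⟩

/-- The fixed unitriangular element with parameter `δ`. -/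
noncomputable def uR (σ : F ≃+* F) (δ : F) : GL (Fin 3) F := uT σ δ (-(δ * δ) / 2)

/-- A fixed diagonal isometry. -/
noncomputable def dR (l : Fˣ) : GL (Fin 3) F :=
  GeneralLinearGroup.mkOfDetNeZero !![(l : F), 0, 0; 0, 1, 0; 0, 0, (l : F)⁻¹] (by simp [det_fin_three])

theorem dR_val (l : Fˣ) :
    ((dR l : GL (Fin 3) F) : Matrix (Fin 3) (Fin 3) F) = !![(l : F), 0, 0; 0, 1, 0; 0, 0, (l : F)⁻¹] := rfl

/-- The flip. -/
noncomputable def flip3 : GL (Fin 3) F :=
  GeneralLinearGroup.mkOfDetNeZero !![0, 0, 1; 0, -1, 0; 1, 0, 0] (by simp [det_fin_three])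

theorem flip3_val : ((flip3 : GL (Fin 3) F) : Matrix (Fin 3) (Fin 3) F) = !![0, 0, 1; 0, -1, 0; 1, 0, 0] := rfl

theorem flip3_mul_self : (flip3 : GL (Fin 3) F) * flip3 = 1 := by
  refine Units.ext ?_
  rw [Units.val_mul, flip3_val, Units.val_one]
  ext i j; fin_cases i <;> fin_cases j <;> simp [mul_apply, Fin.sum_univ_three]

/-- Scalars. -/
noncomputable def scl (z : Fˣ) : GL (Fin 3) F :=
  GeneralLinearGroup.mkOfDetNeZero ((z : F) • (1 : Matrix (Fin 3) (Fin 3) F)) (by simp)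

theorem scl_val (z : Fˣ) : ((scl z : GL (Fin 3) F) : Matrix (Fin 3) (Fin 3) F) = (z : F) • 1 := rfl

variable (hb : IsBar q σ)

include hb in
theorem uT_mem {δ s : F} (h : s + σ s = -(δ * σ δ)) : uT σ δ s ∈ jGroup σ := by
  refine ⟨fun x y => ?_, by simp [uT_val, det_fin_three]⟩
  rw [uT_val]
  simp [jf, mulVec, dotProduct, Fin.sum_univ_three, hb.involutive]
  linear_combination (x 2 * σ (y 2)) * h

include hb in
theorem uR_mem {δ : F} (h2 : (2 : F) ≠ 0) (hδ : σ δ = δ) : uR σ δ ∈ realGroup σ := by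
  refine ⟨uT_mem hb ?_, 1, _, fun i j => ?_, (one_smul F _).symm⟩
  · rw [map_div₀, map_neg, map_mul, hδ, map_ofNat]; field_simp; ring
  · fin_cases i <;> fin_cases j <;> simp [uR, uT_val, hδ, map_ofNat]

include hb in
theorem dR_mem {l : Fˣ} (hl : σ (l : F) = l) : dR l ∈ realGroup σ := by
  refine ⟨⟨fun x y => ?_, by simp [dR_val, det_fin_three]⟩, 1, _, fun i j => ?_, (one_smul F _).symm⟩
  · rw [dR_val]
    simp [jf, mulVec, dotProduct, Fin.sum_univ_three, hl]
    field_simp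
  · fin_cases i <;> fin_cases j <;> simp [dR_val, hl]

theorem flip3_mem : (flip3 : GL (Fin 3) F) ∈ realGroup σ := by
  refine ⟨⟨fun x y => ?_, by simp [flip3_val, det_fin_three]⟩, 1, _, fun i j => ?_, (one_smul F _).symm⟩
  · rw [flip3_val]
    simp [jf, mulVec, dotProduct, Fin.sum_univ_three]
    ring
  · fin_cases i <;> fin_cases j <;> simp [flip3_val]

theorem scl_mem {z : Fˣ} (h1 : (z : F) * σ z = 1) (h3 : (z : F) * z * z = 1) : scl z ∈ realGroup σ := by
  refine ⟨⟨fun x y => ?_, ?_⟩, z, 1, fun i j => by rw [one_apply]; split_ifs <;> simp, scl_val z⟩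
  · rw [scl_val, smul_mulVec, one_mulVec, smul_mulVec, one_mulVec]
    simp [jf]
    linear_combination (x 0 * σ (y 2) + x 1 * σ (y 1) + x 2 * σ (y 0)) * h1
  · rw [scl_val, det_smul, det_one, mul_one, Fintype.card_fin, pow_succ, pow_two, h3]

theorem entry_rel {g : GL (Fin 3) F} (hg : g ∈ jGroup σ) (a b : Fin 3) :
    (g : Matrix (Fin 3) (Fin 3) F) 0 a * σ ((g : Matrix (Fin 3) (Fin 3) F) 2 b) +
      (g : Matrix (Fin 3) (Fin 3) F) 1 a * σ ((g : Matrix (Fin 3) (Fin 3) F) 1 b) +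
      (g : Matrix (Fin 3) (Fin 3) F) 2 a * σ ((g : Matrix (Fin 3) (Fin 3) F) 0 b) =
      if a + b = 2 then 1 else 0 := by
  have h := hg.1 (Pi.single a 1) (Pi.single b 1)
  simp [jf] at h
  rw [h]
  fin_cases a <;> fin_cases b <;> simp [Pi.single_apply]

/-- The isotropic points, by coordinates. -/
theorem iso_cases {v : Fin 3 → F} (hv : jf σ v v = 0) (h2 : v 2 = 0) : v 1 = 0 := by
  simpa [jf, h2] using hv

include hb in
theorem card_norm_fibre (y : F) : Nat.card {x : F // x + σ x = y} ≤ q := by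
  classical
  have hq := Circle.two_le hb
  rw [Nat.card_eq_fintype_card, Fintype.card_subtype]
  rcases Finset.eq_empty_or_nonempty (Finset.univ.filter fun x => x + σ x = y) with h | ⟨x₀, hx₀⟩
  · rw [h, Finset.card_empty]; omega
  rw [Finset.mem_filter] at hx₀
  have hdeg : (Polynomial.X ^ q + Polynomial.X - Polynomial.C y : Polynomial F).natDegree = q := by
    rw [Polynomial.natDegree_sub_C, Polynomial.natDegree_add_eq_left_of_natDegree_lt] <;> simp; omega
  refine (Finset.card_le_card (t := (Polynomial.X ^ q + Polynomial.X - Polynomial.C y).roots.toFinset) fun x hx => ?_).trans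
    ((Multiset.toFinset_card_le _).trans ((Polynomial.card_roots' _).trans hdeg.le))
  rw [Finset.mem_filter] at hx
  rw [Multiset.mem_toFinset, Polynomial.mem_roots fun e => by rw [e, Polynomial.natDegree_zero] at hdeg; omega]
  simp [← hb.eq_pow]
  linear_combination hx.2

include hb in
theorem card_fixedSub : Nat.card (fixed σ) = q := by
  classical
  refine le_antisymm ?_ ?_
  · rw [Nat.card_eq_fintype_card, Fintype.card_subtype]
    exact card_fixed hb fun x hx => (Finset.mem_filter.1 hx).2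
  · by_contra hlt
    push Not at hlt
    let T : F → fixed σ := fun x => ⟨x + σ x, by
      show σ (x + σ x) = x + σ x; rw [map_add, hb.involutive, add_comm]⟩
    have h1 : Nat.card F ≤ Nat.card (fixed σ) * q := by
      rw [← Nat.card_congr (Equiv.sigmaFiberEquiv T), Nat.card_sigma]
      refine (Finset.sum_le_card_nsmul _ _ q fun y _ => ?_).trans ?_
      · exact (Nat.card_congr (Equiv.subtypeEquivRight fun x => by simp [T, Subtype.ext_iff])).le.trans
          (card_norm_fibre hb (y : F))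
      · rw [smul_eq_mul, Finset.card_univ, Nat.card_eq_fintype_card]
    rw [Nat.card_eq_fintype_card, hb.card, pow_two] at h1
    nlinarith

end CfsgLib.SUThree.Rational
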