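import Cfsg.Agent.SUThree.Rational.Chord

/-!
# No pairing of a chord for `q ≥ 13`
-/

set_option autoImplicit false
set_option linter.unusedSectionVars false

namespace CfsgLib.SUThree.Rational

open Matrix CfsgLib.MaxSub CfsgLib.MaxSub.Circle

variable {F : Type*} [Field F] [Fintype F] {q : ℕ} {σ : F ≃+* F} {M : Subgroup (GL (Fin 3) F)}
  (hb : IsBar q σ) (h2 : (2 : F) ≠ 0) (hMJ : M ≤ jGroup σ) (hreal : realGroup σ ≤ M) (hT : NoRoot σ M)
  (htr : ∀ a b : F, a + σ a = -(b * σ b) → ∃ g ∈ M, (g : Matrix (Fin 3) (Fin 3) F) 2 0 ≠ 0 ∧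
    (g : Matrix (Fin 3) (Fin 3) F) 0 0 = a * (g : Matrix (Fin 3) (Fin 3) F) 2 0 ∧
    (g : Matrix (Fin 3) (Fin 3) F) 1 0 = b * (g : Matrix (Fin 3) (Fin 3) F) 2 0)

/-- A quadratic with non-zero constant term has at most two roots. -/
theorem card_roots_le_two [DecidableEq F] {α β γ : F} (hγ : γ ≠ 0) (s : Finset F)
    (hs : ∀ x ∈ s, α * x * x + β * x + γ = 0) : s.card ≤ 2 := by
  by_contra h
  push Not at h
  obtain ⟨a, b, c, ha, hb, hc, hab, hac, hbc⟩ := Finset.two_lt_card_iff.1 h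
  have e1 : α * (a + b) + β = 0 :=
    (mul_eq_zero.1 (show (a - b) * (α * (a + b) + β) = 0 by linear_combination hs a ha - hs b hb)).resolve_left
      (sub_ne_zero.2 hab)
  have e2 : α * (a + c) + β = 0 :=
    (mul_eq_zero.1 (show (a - c) * (α * (a + c) + β) = 0 by linear_combination hs a ha - hs c hc)).resolve_left
      (sub_ne_zero.2 hac)
  have e3 : α = 0 := (mul_eq_zero.1 (show α * (b - c) = 0 by linear_combination e1 - e2)).resolve_right
    (sub_ne_zero.2 hbc)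
  rw [e3, zero_mul, zero_add] at e1
  exact hγ (by linear_combination hs a ha - a * a * e3 - a * e1)

include hb h2 hMJ hreal hT htr in
theorem false_of_large (hq : 13 ≤ q) : False := by
  classical
  set T := Finset.univ.filter fun e : F => σ e = e
  have hTc : q ≤ T.card := by
    rw [← card_fixedSub hb, Nat.card_eq_fintype_card, Fintype.card_subtype]
    exact Finset.card_le_card fun x hx => hx
  obtain ⟨k₀, hk0, hσk0⟩ : ∃ k : F, k ≠ 0 ∧ σ k = -k := by
    by_contra h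
    push Not at h
    have hall : ∀ x : F, σ x = x := fun x => by
      by_contra hx
      refine h (x - σ x) (sub_ne_zero.2 (Ne.symm hx)) ?_
      rw [map_sub, hb.involutive, neg_sub]
    have : Fintype.card F ≤ q := card_fixed hb fun x _ => hall x
    rw [hb.card, pow_two] at this
    nlinarith
  obtain ⟨u₀, hu0, hσu0, huk0, hpair⟩ := exists_pair hb h2 hMJ hreal hT htr hk0 hσk0
  obtain ⟨c₀, hc₀⟩ : ∃ c, c = u₀ / k₀ := ⟨_, rfl⟩
  have hσc : σ c₀ = c₀ := by rw [hc₀, map_div₀, hσk0, hσu0, neg_div_neg_eq]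
  have hu : u₀ = c₀ * k₀ := by rw [hc₀, div_mul_cancel₀ _ hk0]
  have hc0 : c₀ ≠ 0 := hc₀ ▸ div_ne_zero hu0 hk0
  have hc1 : c₀ ≠ 1 := fun e => huk0 (by rw [hu, e, one_mul])
  -- `c₀` is the square of a skew element
  obtain ⟨s₀, hs₀, hs₀'⟩ := exists_sqrt_fixed hb hσc
  have hs00 : s₀ ≠ 0 := fun e => hc0 (by rw [← hs₀, e, mul_zero])
  have hσs₀ : σ s₀ = -s₀ := hs₀'.resolve_left fun e =>
    not_sq hb h2 hMJ hreal hT htr (by omega) hσk0 hσu0 hk0 huk0 hpair (ρ := s₀⁻¹)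
      (by rw [map_inv₀, e]) (by rw [hu, ← hs₀]; field_simp)
  -- the partner is `c₀` or `c₀⁻¹` times the slope
  have hpart : ∀ k u : F, k ≠ 0 → σ k = -k → Pair M k u → u = c₀ * k ∨ u = c₀⁻¹ * k := by
    intro k u hk hσk h
    obtain ⟨r, hr⟩ : ∃ r, r = k / k₀ := ⟨_, rfl⟩
    have hσr : σ r = r := by rw [hr, map_div₀, hσk0, hσk, neg_div_neg_eq]
    obtain ⟨s, hs, hs'⟩ := exists_sqrt_fixed hb hσr
    have hkr : k = r * k₀ := by rw [hr, div_mul_cancel₀ _ hk0]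
    have hs0 : s ≠ 0 := fun e => hk (by rw [hkr, ← hs, e, mul_zero, zero_mul])
    rcases hs' with hσs | hσs
    · left
      have hl : σ ((Units.mk0 s⁻¹ (inv_ne_zero hs0) : Fˣ) : F) = s⁻¹ := by
        show σ s⁻¹ = s⁻¹; rw [map_inv₀, hσs]
      have hP := pair_dR (hreal (dR_mem hb (l := Units.mk0 s⁻¹ (inv_ne_zero hs0)) hl)) hpair
      have e1 : k₀ / (s⁻¹ * s⁻¹) = k := by rw [hkr, ← hs]; field_simp
      rw [Units.val_mk0, e1] at hP
      rw [pair_unique hb h2 hMJ hreal hT hP h, hu, hkr, ← hs]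
      field_simp
    · right
      obtain ⟨m, hm⟩ : ∃ m, m = s / s₀ := ⟨_, rfl⟩
      have hσm : σ m = m := by rw [hm, map_div₀, hσs, hσs₀, neg_div_neg_eq]
      have hm0 : m ≠ 0 := hm ▸ div_ne_zero hs0 hs00
      have hl : σ ((Units.mk0 m⁻¹ (inv_ne_zero hm0) : Fˣ) : F) = m⁻¹ := by
        show σ m⁻¹ = m⁻¹; rw [map_inv₀, hσm]
      have hP := pair_dR (hreal (dR_mem hb (l := Units.mk0 m⁻¹ (inv_ne_zero hm0)) hl))
        (pair_swap hb h2 hMJ hreal hT hpair)
      have e1 : u₀ / (m⁻¹ * m⁻¹) = k := by rw [hkr, ← hs, hu, ← hs₀, hm]; field_simp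
      rw [Units.val_mk0, e1] at hP
      rw [pair_unique hb h2 hMJ hreal hT hP h, hkr, ← hs, ← hs₀, hm]
      field_simp
  -- the square class of `k₀`
  set A := (T.erase 0).image fun l => l * l * k₀ with hA
  have hAcard : q ≤ 2 * A.card + 1 := by
    have h := Finset.card_le_mul_card_image (f := fun l : F => l * l * k₀) (T.erase 0) 2 fun e he => by
      by_contra hlt
      push Not at hlt
      obtain ⟨a, b, d, ha, hb, hd, hab, had, hbd⟩ := Finset.two_lt_card_iff.1 hlt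
      simp only [Finset.mem_filter] at ha hb hd
      have e1 := (mul_self_eq_mul_self_iff.1 (mul_right_cancel₀ hk0 (hb.2.trans ha.2.symm))).resolve_left
        (Ne.symm hab)
      have e2 := (mul_self_eq_mul_self_iff.1 (mul_right_cancel₀ hk0 (hd.2.trans ha.2.symm))).resolve_left
        (Ne.symm had)
      exact hbd (e1.trans e2.symm)
    rw [Finset.card_erase_of_mem (show (0 : F) ∈ T from Finset.mem_filter.2 ⟨Finset.mem_univ _, map_zero σ⟩),
      ← hA] at h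
    omega
  obtain ⟨g₀, hg₀, hB₀, ha, hb₀, hka, hub⟩ := hpair
  obtain ⟨h01, h10, h12, h21⟩ := blk_entries h2 hB₀
  obtain ⟨a, haa⟩ : ∃ a, a = (g₀ : Matrix (Fin 3) (Fin 3) F) 0 0 := ⟨_, rfl⟩
  obtain ⟨b, hbb⟩ : ∃ b, b = (g₀ : Matrix (Fin 3) (Fin 3) F) 0 2 := ⟨_, rfl⟩
  rw [← haa] at ha hka
  rw [← hbb] at hb₀ hub
  have key : ∀ x ∈ A, (a + b * x = 0 ∨ a + b * (c₀ * x) = 0) ∨ ∃ e ∈ ({c₀, c₀⁻¹} : Finset F),
      (k₀ * a + u₀ * b * (c₀ * x)) * (a + b * x) = e * (k₀ * a + u₀ * b * x) * (a + b * (c₀ * x)) := by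
    intro x hx
    obtain ⟨l, hl, hlx⟩ := Finset.mem_image.1 hx
    have hlf : σ l = l := (Finset.mem_filter.1 (Finset.mem_of_mem_erase hl)).2
    have hl0 : l ≠ 0 := Finset.ne_of_mem_erase hl
    have hl' : σ ((Units.mk0 l⁻¹ (inv_ne_zero hl0) : Fˣ) : F) = l⁻¹ := by
      show σ l⁻¹ = l⁻¹; rw [map_inv₀, hlf]
    obtain ⟨g₁, hg₁, hB₁, hA₁, hB₁', hk₁, hu₁⟩ :=
      pair_dR (hreal (dR_mem hb (l := Units.mk0 l⁻¹ (inv_ne_zero hl0)) hl'))
        (show Pair M k₀ u₀ from ⟨g₀, hg₀, hB₀, haa ▸ ha, hbb ▸ hb₀, haa ▸ hka, hbb ▸ hub⟩)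
    rw [Units.val_mk0, show k₀ / (l⁻¹ * l⁻¹) = x by rw [← hlx]; field_simp] at hk₁
    rw [Units.val_mk0, show u₀ / (l⁻¹ * l⁻¹) = c₀ * x by rw [← hlx, hu]; field_simp] at hu₁
    obtain ⟨i01, i10, i12, i21⟩ := blk_entries h2 hB₁
    obtain ⟨p, hp⟩ : ∃ p, p = (g₁ : Matrix (Fin 3) (Fin 3) F) 0 0 := ⟨_, rfl⟩
    obtain ⟨r, hr⟩ : ∃ r, r = (g₁ : Matrix (Fin 3) (Fin 3) F) 0 2 := ⟨_, rfl⟩
    rw [← hp] at hA₁ hk₁
    rw [← hr] at hB₁' hu₁
    rcases eq_or_ne (a + b * x) 0 with h | h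
    · exact Or.inl (Or.inl h)
    rcases eq_or_ne (a + b * (c₀ * x)) 0 with hn | hn
    · exact Or.inl (Or.inr hn)
    right
    have h' : k₀ * a + u₀ * b * x ≠ 0 := fun e =>
      hn ((mul_eq_zero.1 (show k₀ * (a + b * (c₀ * x)) = 0 by linear_combination e - b * x * hu)).resolve_left hk0)
    set g := g₀ * g₁ with hg
    have e00 : (g : Matrix (Fin 3) (Fin 3) F) 0 0 = (a + b * x) * p := by
      simp [hg, mul_apply, Fin.sum_univ_three, h01, ← haa, ← hbb, ← hp, hk₁]; ring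
    have e20 : (g : Matrix (Fin 3) (Fin 3) F) 2 0 = (k₀ * a + u₀ * b * x) * p := by
      simp [hg, mul_apply, Fin.sum_univ_three, h21, hka, hub, ← hp, hk₁]; ring
    have e02 : (g : Matrix (Fin 3) (Fin 3) F) 0 2 = (a + b * (c₀ * x)) * r := by
      simp [hg, mul_apply, Fin.sum_univ_three, h01, ← haa, ← hbb, ← hr, hu₁]; ring
    have e22 : (g : Matrix (Fin 3) (Fin 3) F) 2 2 = (k₀ * a + u₀ * b * (c₀ * x)) * r := by
      simp [hg, mul_apply, Fin.sum_univ_three, h21, hka, hub, ← hr, hu₁]; ring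
    have hgM : g ∈ M := M.mul_mem hg₀ hg₁
    have hgB : IsBlk g := Subgroup.mul_mem _ hB₀ hB₁
    have hg00 : (g : Matrix (Fin 3) (Fin 3) F) 0 0 ≠ 0 := e00 ▸ mul_ne_zero h hA₁
    have hg02 : (g : Matrix (Fin 3) (Fin 3) F) 0 2 ≠ 0 := e02 ▸ mul_ne_zero hn hB₁'
    obtain ⟨K, hK⟩ : ∃ K, K = (k₀ * a + u₀ * b * x) / (a + b * x) := ⟨_, rfl⟩
    obtain ⟨U, hU⟩ : ∃ U, U = (k₀ * a + u₀ * b * (c₀ * x)) / (a + b * (c₀ * x)) := ⟨_, rfl⟩
    have hK' : (g : Matrix (Fin 3) (Fin 3) F) 2 0 = K * (g : Matrix (Fin 3) (Fin 3) F) 0 0 := by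
      rw [e20, e00, hK]; field_simp
    have hU' : (g : Matrix (Fin 3) (Fin 3) F) 2 2 = U * (g : Matrix (Fin 3) (Fin 3) F) 0 2 := by
      rw [e22, e02, hU, div_mul_eq_mul_div, eq_div_iff hn]; ring
    have hσK : σ K = -K := by
      have r := entry_rel (hMJ hgM) 0 0
      obtain ⟨-, g10, -, -⟩ := blk_entries h2 hgB
      simp [g10, hK'] at r
      refine eq_neg_of_add_eq_zero_left ?_
      refine (mul_eq_zero.1 (show (σ K + K) * ((g : Matrix (Fin 3) (Fin 3) F) 0 0 *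
        σ ((g : Matrix (Fin 3) (Fin 3) F) 0 0)) = 0 by linear_combination r)).resolve_right
        (mul_ne_zero hg00 ((map_ne_zero σ).2 hg00))
    rcases hpart K U (hK ▸ div_ne_zero h' h) hσK ⟨g, hgM, hgB, hg00, hg02, hK', hU'⟩ with e | e <;>
      rw [hU, hK, div_eq_iff hn] at e
    · exact ⟨c₀, Finset.mem_insert_self _ _, by rw [e, mul_right_comm, mul_div_assoc', div_mul_cancel₀ _ h]⟩
    · exact ⟨c₀⁻¹, Finset.mem_insert_of_mem (Finset.mem_singleton_self _), by rw [e, mul_right_comm, mul_div_assoc', div_mul_cancel₀ _ h]⟩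
  -- too many roots
  have hsub : A ⊆ (A.filter fun x => a + b * x = 0 ∨ a + b * (c₀ * x) = 0) ∪ (({c₀, c₀⁻¹} : Finset F).biUnion fun e => A.filter fun x =>
      (k₀ * a + u₀ * b * (c₀ * x)) * (a + b * x) = e * (k₀ * a + u₀ * b * x) * (a + b * (c₀ * x))) := fun x hx => by
    rcases key x hx with h | ⟨e, he, h⟩
    · exact Finset.mem_union_left _ (Finset.mem_filter.2 ⟨hx, h⟩)
    · exact Finset.mem_union_right _ (Finset.mem_biUnion.2 ⟨e, he, Finset.mem_filter.2 ⟨hx, h⟩⟩)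
  have h1 : (A.filter fun x => a + b * x = 0 ∨ a + b * (c₀ * x) = 0).card ≤ 1 := Finset.card_le_one.2 fun x hx y hy => by
    simp only [Finset.mem_filter] at hx hy
    have hcx : ∀ x ∈ A, ∀ y ∈ A, a + b * x = 0 → a + b * (c₀ * y) = 0 → False := by
      intro x hx y hy e1 e2
      obtain ⟨l, hl, rfl⟩ := Finset.mem_image.1 hx
      obtain ⟨l', hl', rfl⟩ := Finset.mem_image.1 hy
      have hl0 : l' ≠ 0 := Finset.ne_of_mem_erase hl'
      have h' : c₀ * (l' * l') = l * l := mul_right_cancel₀ hk0 (mul_left_cancel₀ hb₀ (by linear_combination e2 - e1))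
      have hs : s₀ * s₀ = l / l' * (l / l') := by rw [hs₀]; field_simp; linear_combination h'
      rcases mul_self_eq_mul_self_iff.1 hs with e | e
      all_goals
        refine hs00 ((mul_eq_zero.1 (show (2 : F) * s₀ = 0 from ?_)).resolve_left h2)
        have hf : σ s₀ = s₀ := by
          simp [e, map_div₀, (Finset.mem_filter.1 (Finset.mem_of_mem_erase hl)).2,
            (Finset.mem_filter.1 (Finset.mem_of_mem_erase hl')).2]
        linear_combination hσs₀ - hf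
    rcases hx.2 with e1 | e1 <;> rcases hy.2 with e2 | e2
    · exact mul_left_cancel₀ hb₀ (by linear_combination e1 - e2)
    · exact (hcx x hx.1 y hy.1 e1 e2).elim
    · exact (hcx y hy.1 x hx.1 e2 e1).elim
    · exact mul_left_cancel₀ hc0 (mul_left_cancel₀ hb₀ (by linear_combination e1 - e2))
  have h3 : ∀ e ∈ ({c₀, c₀⁻¹} : Finset F), (A.filter fun x =>
      (k₀ * a + u₀ * b * (c₀ * x)) * (a + b * x) = e * (k₀ * a + u₀ * b * x) * (a + b * (c₀ * x))).card ≤ 2 := by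
    intro e he
    have he1 : e ≠ 1 := by
      simp only [Finset.mem_insert, Finset.mem_singleton] at he
      rcases he with rfl | rfl
      · exact hc1
      · exact fun e => hc1 (inv_eq_one.1 e)
    refine card_roots_le_two (α := u₀ * b * b * c₀ * (1 - e))
      (β := u₀ * b * c₀ * a + k₀ * a * b - e * (u₀ * b * a + k₀ * a * b * c₀)) (γ := k₀ * a * a * (1 - e))
      (mul_ne_zero (mul_ne_zero (mul_ne_zero hk0 ha) ha) (sub_ne_zero.2 (Ne.symm he1))) _ fun x hx => ?_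
    linear_combination (Finset.mem_filter.1 hx).2
  have := (Finset.card_le_card hsub).trans (Finset.card_union_le _ _)
  have h4 := (Finset.card_biUnion_le).trans (Finset.sum_le_card_nsmul _ _ 2 h3)
  have h5 : ({c₀, c₀⁻¹} : Finset F).card ≤ 2 := Finset.card_le_two
  rw [smul_eq_mul] at h4
  omega

end CfsgLib.SUThree.Rational
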