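import Cfsg.Agent.SUThree.Rational.Model

/-!
# Overgroups of the rational subgroup without transvections: point stabilisers are rational
-/

set_option autoImplicit false
set_option linter.unusedSectionVars false

namespace CfsgLib.SUThree.Rational

open Matrix CfsgLib.MaxSub CfsgLib.MaxSub.Circle

variable {F : Type*} [Field F] [Fintype F] {q : ℕ} {σ : F ≃+* F} (hb : IsBar q σ) (h2 : (2 : F) ≠ 0)
  {M : Subgroup (GL (Fin 3) F)}

include hb in
/-- An isometry fixing `e₀` is unitriangular. -/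
theorem eq_uT {g : GL (Fin 3) F} (hg : g ∈ jGroup σ) (h00 : (g : Matrix (Fin 3) (Fin 3) F) 0 0 = 1)
    (h10 : (g : Matrix (Fin 3) (Fin 3) F) 1 0 = 0) (h20 : (g : Matrix (Fin 3) (Fin 3) F) 2 0 = 0) :
    g = uT σ ((g : Matrix (Fin 3) (Fin 3) F) 1 2) ((g : Matrix (Fin 3) (Fin 3) F) 0 2) := by
  have r01 := entry_rel hg 0 1
  have r02 := entry_rel hg 0 2
  have r12 := entry_rel hg 1 2
  simp [h00, h10, h20] at r01 r02 r12
  have h22 : (g : Matrix (Fin 3) (Fin 3) F) 2 2 = 1 := r02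
  have h11 : (g : Matrix (Fin 3) (Fin 3) F) 1 1 = 1 := by
    have hd := hg.2
    rw [det_fin_three, h00, h10, h20, r01, h22] at hd
    linear_combination hd
  rw [r01, h11, h22, map_one] at r12
  simp at r12
  refine Units.ext ?_
  rw [uT_val]
  ext i j; fin_cases i <;> fin_cases j <;> simp [h00, h10, h20, r01, h22, h11]
  linear_combination r12

/-- No transvection with centre `e₀`. -/
def NoRoot (σ : F ≃+* F) (M : Subgroup (GL (Fin 3) F)) : Prop := ∀ c : F, uT σ 0 c ∈ M → c = 0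

variable (hreal : realGroup σ ≤ M) (hT : NoRoot σ M)

include hb h2 hreal hT in
theorem fixed_of_uT {δ s : F} (h : uT σ δ s ∈ M) : σ δ = δ := by
  have h1 : uR σ 1 ∈ M := hreal (uR_mem hb h2 (map_one σ))
  have hc := M.mul_mem (M.mul_mem h h1) (M.inv_mem (M.mul_mem h1 h))
  have e : uT σ δ s * uR σ 1 * (uR σ 1 * uT σ δ s)⁻¹ = uT σ 0 (δ - σ δ) := by
    rw [mul_inv_eq_iff_eq_mul, uR, uT_mul, uT_mul, uT_mul]
    congr 1 <;> simp <;> ring
  rw [e] at hc
  exact (sub_eq_zero.1 (hT _ hc)).symm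

include hb h2 hreal hT in
theorem eq_uR {δ s : F} (h : uT σ δ s ∈ M) : uT σ δ s = uR σ δ := by
  have hδ := fixed_of_uT hb h2 hreal hT h
  have hc := M.mul_mem h (M.inv_mem (hreal (uR_mem hb h2 hδ)))
  have e : uT σ δ s * (uR σ δ)⁻¹ = uT σ 0 (s + δ * δ / 2) := by
    rw [mul_inv_eq_iff_eq_mul, uR, uT_mul]
    congr 1
    · ring
    · simp; ring
  rw [e] at hc
  rw [uR]
  congr 1
  linear_combination hT _ hc

include hb h2 hreal hT in
/-- The stabiliser of the point `e₀` consists of scalars times fixed triangular elements. -/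
theorem point_form (hMJ : M ≤ jGroup σ) {g : GL (Fin 3) F} (hg : g ∈ M)
    (h10 : (g : Matrix (Fin 3) (Fin 3) F) 1 0 = 0) (h20 : (g : Matrix (Fin 3) (Fin 3) F) 2 0 = 0) :
    ∃ (z : Fˣ) (δ : F) (l : Fˣ), σ δ = δ ∧ σ (l : F) = l ∧ scl z ∈ realGroup σ ∧ g = scl z * (uR σ δ * dR l) := by
  have hgJ := hMJ hg
  obtain ⟨lm, hlm⟩ : ∃ a, a = (g : Matrix (Fin 3) (Fin 3) F) 0 0 := ⟨_, rfl⟩
  obtain ⟨μ, hμ⟩ : ∃ a, a = (g : Matrix (Fin 3) (Fin 3) F) 1 1 := ⟨_, rfl⟩
  obtain ⟨ν, hν⟩ : ∃ a, a = (g : Matrix (Fin 3) (Fin 3) F) 2 2 := ⟨_, rfl⟩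
  have r02 := entry_rel hgJ 0 2
  have r01 := entry_rel hgJ 0 1
  have r11 := entry_rel hgJ 1 1
  simp [h10, h20, ← hlm, ← hμ, ← hν] at r01 r02 r11
  have hl0 : lm ≠ 0 := left_ne_zero_of_mul_eq_one r02
  have h21 : (g : Matrix (Fin 3) (Fin 3) F) 2 1 = 0 := r01.resolve_left hl0
  simp [h21] at r11
  have hdet : lm * μ * ν = 1 := by
    have hd := hgJ.2
    rw [det_fin_three, h10, h20, h21, ← hlm, ← hμ, ← hν] at hd
    linear_combination hd
  have hν0 : ν ≠ 0 := right_ne_zero_of_mul_eq_one hdet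
  have hσν : lm * σ ν = 1 := r02
  -- a conjugate of a unipotent element
  set u := g * uR σ 1 * g⁻¹ with hu
  have huM : u ∈ M := M.mul_mem (M.mul_mem hg (hreal (uR_mem hb h2 (map_one σ)))) (M.inv_mem hg)
  have eg : (u : Matrix (Fin 3) (Fin 3) F) * (g : Matrix (Fin 3) (Fin 3) F) =
      (g : Matrix (Fin 3) (Fin 3) F) * (uR σ 1 : GL (Fin 3) F) := by
    rw [← Units.val_mul, ← Units.val_mul]; congr 1; rw [hu]; group
  have col : ∀ i, (u : Matrix (Fin 3) (Fin 3) F) i 0 * lm = (g : Matrix (Fin 3) (Fin 3) F) i 0 := fun i => by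
    have h := congrFun (congrFun eg i) 0
    simp [mul_apply, Fin.sum_univ_three, h10, h20, ← hlm, uR, uT_val] at h
    exact h
  have hue : u = uT σ ((u : Matrix (Fin 3) (Fin 3) F) 1 2) ((u : Matrix (Fin 3) (Fin 3) F) 0 2) := by
    refine eq_uT hb (hMJ huM) ?_ ?_ ?_
    · exact mul_right_cancel₀ hl0 (by rw [col, one_mul, hlm])
    · exact mul_right_cancel₀ hl0 (by rw [col, h10, zero_mul])
    · exact mul_right_cancel₀ hl0 (by rw [col, h20, zero_mul])
  obtain ⟨δ', hδ'⟩ : ∃ a, a = (u : Matrix (Fin 3) (Fin 3) F) 1 2 := ⟨_, rfl⟩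
  have hfix := fixed_of_uT hb h2 hreal hT (hue ▸ huM)
  rw [← hδ'] at hfix
  have hδν : δ' * ν = μ := by
    have h := congrFun (congrFun eg 1) 2
    rw [hue] at h
    simp [mul_apply, Fin.sum_univ_three, h10, h21, ← hμ, ← hν, ← hδ', uR, uT_val] at h
    linear_combination h
  -- the scalar
  have hσl : σ lm * ν = 1 := by
    have := congrArg σ hσν
    rwa [map_mul, hb.involutive, map_one] at this
  have hμl : μ = σ lm / lm := by
    rw [eq_div_iff hl0]
    refine mul_right_cancel₀ hν0 ?_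
    linear_combination hdet - hσl
  have hμ3 : μ * μ * μ = 1 := by
    have e : δ' = σ lm * σ lm / lm := by
      refine mul_right_cancel₀ hν0 ?_
      rw [hδν, hμl, div_mul_eq_mul_div]
      congr 1
      linear_combination (-σ lm) * hσl
    rw [e, map_div₀, map_mul, hb.involutive] at hfix
    have hσl0 : σ lm ≠ 0 := (map_ne_zero σ).2 hl0
    rw [div_eq_div_iff hσl0 hl0] at hfix
    rw [hμl]; field_simp
    linear_combination -hfix
  have hμ1 : μ * σ μ = 1 := r11
  have hμ0 : μ ≠ 0 := left_ne_zero_of_mul_eq_one hμ1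
  obtain ⟨z, hz⟩ : ∃ z : Fˣ, (z : F) = μ * μ := ⟨Units.mk0 _ (mul_ne_zero hμ0 hμ0), rfl⟩
  have hzμ : (z : F) * μ = 1 := by rw [hz]; exact hμ3
  have hzR : scl z ∈ realGroup σ := scl_mem
    (by rw [hz, map_mul]; linear_combination (μ * σ μ + 1) * hμ1)
    (by rw [hz]; linear_combination (μ * μ * μ + 1) * hμ3)
  set g' := scl z * g with hg'
  have hg'M : g' ∈ M := M.mul_mem (hreal hzR) hg
  have hval : ∀ i j, (g' : Matrix (Fin 3) (Fin 3) F) i j = z * (g : Matrix (Fin 3) (Fin 3) F) i j := fun i j => by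
    rw [hg', Units.val_mul, scl_val, smul_one_mul, Matrix.smul_apply, smul_eq_mul]
  have hl' : σ ((z : F) * lm) = z * lm := by
    rw [map_mul, hz, map_mul, show σ lm = μ * lm by rw [hμl]; field_simp]
    linear_combination lm * ((μ * μ) * hμ1 - σ μ * hμ3) * 0 + lm * (σ μ + μ * μ) * hμ1 - (lm * σ μ) * hμ3
  set L : Fˣ := Units.mk0 ((z : F) * lm) (mul_ne_zero z.ne_zero hl0)
  set h := g' * (dR L)⁻¹ with hh
  have hhM : h ∈ M := M.mul_mem hg'M (M.inv_mem (hreal (dR_mem hb (l := L) hl')))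
  have eh : (h : Matrix (Fin 3) (Fin 3) F) * (dR L : GL (Fin 3) F) = g' := by
    rw [← Units.val_mul, hh, inv_mul_cancel_right]
  have colh : ∀ i, (h : Matrix (Fin 3) (Fin 3) F) i 0 * (L : F) = (g' : Matrix (Fin 3) (Fin 3) F) i 0 := fun i => by
    have h := congrFun (congrFun eh i) 0
    simpa [mul_apply, Fin.sum_univ_three, dR_val] using h
  have hhe := eq_uT hb (hMJ hhM)
    (mul_right_cancel₀ L.ne_zero (by rw [colh, hval, ← hlm, one_mul]; rfl))
    (mul_right_cancel₀ L.ne_zero (by rw [colh, hval, h10, mul_zero, zero_mul]))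
    (mul_right_cancel₀ L.ne_zero (by rw [colh, hval, h20, mul_zero, zero_mul]))
  have hhu := eq_uR hb h2 hreal hT (hhe ▸ hhM)
  refine ⟨z⁻¹, _, L, fixed_of_uT hb h2 hreal hT (hhe ▸ hhM), hl', ?_, ?_⟩
  · have hs : scl z⁻¹ = (scl z)⁻¹ := by
      refine eq_inv_of_mul_eq_one_left (Units.ext ?_)
      rw [Units.val_mul, scl_val, scl_val, smul_mul_smul_comm, ← Units.val_mul, inv_mul_cancel, Units.val_one,
        one_smul, one_mul, Units.val_one]
    rw [hs]; exact Subgroup.inv_mem _ hzR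
  · have hs : scl z⁻¹ * scl z = 1 := by
      refine Units.ext ?_
      rw [Units.val_mul, scl_val, scl_val, smul_mul_smul_comm, ← Units.val_mul, inv_mul_cancel, Units.val_one,
        one_smul, one_mul, Units.val_one]
    rw [← hhu, ← hhe, hh, inv_mul_cancel_right, hg', ← mul_assoc, hs, one_mul]

end CfsgLib.SUThree.Rational
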