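import Cfsg.Agent.SUThree.Rational.Pairing

/-!
# The small fields, and the conclusion for overgroups of the rational subgroup
-/

set_option autoImplicit false
set_option linter.unusedSectionVars false

namespace CfsgLib.SUThree.Rational

open Matrix CfsgLib.MaxSub CfsgLib.MaxSub.Circle

/-- A subgroup of prime order that is the only one of its order is normalised by powers. -/
theorem exists_normal_prime {G : Type*} [Group G] [Finite G] {M : Subgroup G} {p m : ℕ} (hp : p.Prime)
    (hM : Nat.card M = p * m) (hdiv : ∀ d ≤ m, d ∣ m → d % p = 1 → d = 1) (hpm : ¬ p ∣ m) (hm : 0 < m) :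
    ∃ a ∈ M, orderOf a = p ∧ ∀ g ∈ M, ∃ i : ℕ, g * a * g⁻¹ = a ^ i := by
  have : Fact p.Prime := ⟨hp⟩
  let P : Sylow p ↥M := default
  have hP : Nat.card (P : Subgroup ↥M) = p := by
    rw [P.card_eq_multiplicity, hM, Nat.factorization_mul hp.ne_zero hm.ne', Finsupp.add_apply,
      hp.factorization_self, Nat.factorization_eq_zero_of_not_dvd hpm, add_zero, pow_one]
  have hidx : (P : Subgroup ↥M).index = m := by
    have h := (P : Subgroup ↥M).card_mul_index
    rw [hP, hM] at h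
    exact Nat.eq_of_mul_eq_mul_left hp.pos h
  have hd : Nat.card (Sylow p ↥M) ∣ m := hidx ▸ P.card_dvd_index
  have h1 : Nat.card (Sylow p ↥M) = 1 := by
    refine hdiv _ (Nat.le_of_dvd hm hd) hd ?_
    have h := card_sylow_modEq_one p ↥M
    rwa [Nat.ModEq, Nat.one_mod_eq_one.2 hp.ne_one] at h
  have hsub : Subsingleton (Sylow p ↥M) := (Nat.card_eq_one_iff_unique.1 h1).1
  have hN : (P : Subgroup ↥M).Normal := Sylow.normal_of_subsingleton P
  have : IsCyclic ↥(P : Subgroup ↥M) := isCyclic_of_prime_card hP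
  obtain ⟨⟨a, haP⟩, ha⟩ := IsCyclic.exists_monoid_generator (α := ↥(P : Subgroup ↥M))
  have hord : orderOf (⟨a, haP⟩ : ↥(P : Subgroup ↥M)) = p := by
    rw [← Nat.card_zpowers]
    refine congrArg (fun H : Subgroup ↥(P : Subgroup ↥M) => Nat.card H) ((Subgroup.eq_top_iff' _).2 fun x => ?_) |>.trans
      (Subgroup.card_top.trans hP)
    obtain ⟨n, rfl⟩ := ha x
    exact Subgroup.npow_mem_zpowers _ n
  refine ⟨a, a.2, by rw [Subgroup.orderOf_coe, ← Subgroup.orderOf_mk a haP, hord], fun g hg => ?_⟩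
  obtain ⟨i, hi⟩ := ha ⟨_, hN.conj_mem a haP ⟨g, hg⟩⟩
  exact ⟨i, by simpa using (congrArg (fun x : ↥(P : Subgroup ↥M) => ((x : ↥M) : G)) hi).symm⟩

variable {F : Type*} [Field F] [Fintype F] {q : ℕ} {σ : F ≃+* F} {M : Subgroup (GL (Fin 3) F)}
  (hb : IsBar q σ) (h2 : (2 : F) ≠ 0) (hMJ : M ≤ jGroup σ) (hreal : realGroup σ ≤ M) (hT : NoRoot σ M)

include hb h2 hMJ hreal hT in
theorem no_normal_prime {p : ℕ} (hp : ¬ p ∣ Nat.card (realGroup σ)) (hq : 4 ≤ q) {a : GL (Fin 3) F} (ha : a ∈ M)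
    (hord : orderOf a = p) (hnorm : ∀ g ∈ M, ∃ i : ℕ, g * a * g⁻¹ = a ^ i) : False := by
  classical
  set T := Finset.univ.filter fun e : F => σ e = e
  have hT' : q ≤ T.card := by
    rw [← card_fixedSub hb, Nat.card_eq_fintype_card, Fintype.card_subtype]
    exact Finset.card_le_card fun x hx => hx
  obtain ⟨l, hl, hnot⟩ := Finset.exists_mem_notMem_of_card_lt_card (s := ({0, 1} : Finset F)) (t := T)
    (lt_of_le_of_lt Finset.card_le_two (by omega))
  simp only [Finset.mem_insert, Finset.mem_singleton, not_or] at hnot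
  set L : Fˣ := Units.mk0 l hnot.1
  set s := uR σ 1
  set t := dR L
  have hs : s ∈ M := hreal (uR_mem hb h2 (map_one σ))
  have ht : t ∈ M := hreal (dR_mem hb (Finset.mem_filter.1 hl).2)
  obtain ⟨i, hi⟩ := hnorm s hs
  obtain ⟨j, hj⟩ := hnorm t ht
  have key : ∀ (x y : GL (Fin 3) F) (i j : ℕ), x * a * x⁻¹ = a ^ i → y * a * y⁻¹ = a ^ j →
      (x * y) * a * (x * y)⁻¹ = a ^ (j * i) := fun x y i j hx hy => by
    rw [show x * y * a * (x * y)⁻¹ = x * (y * a * y⁻¹) * x⁻¹ by group, hy, ← conj_pow, hx, ← pow_mul, mul_comm]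
  have hcomm : (t * s)⁻¹ * (s * t) * a = a * ((t * s)⁻¹ * (s * t)) := by
    have h1 := key s t i j hi hj
    have h3 := key t s j i hj hi
    rw [mul_comm i j, ← h1] at h3
    calc (t * s)⁻¹ * (s * t) * a = (t * s)⁻¹ * (s * t * a * (s * t)⁻¹) * (s * t) := by group
      _ = (t * s)⁻¹ * (t * s * a * (t * s)⁻¹) * (s * t) := by rw [h3]
      _ = a * ((t * s)⁻¹ * (s * t)) := by group
  obtain ⟨ε, hε⟩ : ∃ ε, ε = -1 + l⁻¹ := ⟨_, rfl⟩
  have hσl : σ l = l := (Finset.mem_filter.1 hl).2
  have hl0 : l ≠ 0 := hnot.1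
  have hw : (t * s)⁻¹ * (s * t) = uR σ ε := by
    rw [inv_mul_eq_iff_eq_mul]
    refine Units.ext ?_
    simp only [s, t, Units.val_mul, uR, uT_val, dR_val]
    ext u v
    fin_cases u <;> fin_cases v <;> simp [L, hε, hσl, mul_apply, Fin.sum_univ_three] <;> field_simp <;> ring
  rw [hw] at hcomm
  have hε0 : ε ≠ 0 := fun e => hnot.2 (by rw [hε, neg_add_eq_zero] at e; exact inv_eq_one.1 e.symm)
  have e : ∀ u, ((uR σ ε * a : GL (Fin 3) F) : Matrix (Fin 3) (Fin 3) F) u 0 =
      (a : Matrix (Fin 3) (Fin 3) F) u 0 := fun u => by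
    rw [hcomm]; simp [uR, uT_val, mul_apply, Fin.sum_univ_three]
  have e1 := e 1
  have e0 := e 0
  simp [uR, uT_val, mul_apply, Fin.sum_univ_three, hε0] at e1
  simp [uR, uT_val, mul_apply, Fin.sum_univ_three, e1, show σ ε = ε by rw [hε]; simp [hσl], hε0] at e0
  have := inf_pStab_le hb h2 hMJ hreal hT ⟨ha, mem_pStab.2 ⟨e0, e1⟩⟩
  exact hp (hord ▸ Subgroup.orderOf_dvd_natCard _ this)

include hb in
/-- **An overgroup of small order of the rational subgroup without the root group is rational.** -/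
theorem le_real_or_root (hq : 7 ≤ q) (hodd : Odd q) (hMJ : M ≤ jGroup σ) (hreal : realGroup σ ≤ M)
    (hdvd : Nat.card M ∣ q ^ 3 * (q ^ 2 - 1) * (q ^ 3 + 1)) (hsmall : Nat.card M ≤ q ^ 3 * (q ^ 2 - 1))
    (hne : ∃ g ∈ M, g ∉ realGroup σ) {x : F} (hx : σ x = -x) : uT σ 0 x ∈ M := by
  classical
  have h2 : (2 : F) ≠ 0 := fun h => by
    have hc : ringChar F = 2 := by
      have := ringChar.spec F 2
      exact ((Nat.prime_dvd_prime_iff_eq (CharP.char_is_prime F (ringChar F)) Nat.prime_two).1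
        (this.1 (by exact_mod_cast h)))
    have h1 := FiniteField.even_card_iff_char_two.1 hc
    rw [hb.card, Nat.pow_mod] at h1
    obtain ⟨t, rfl⟩ := hodd
    rw [show (2 * t + 1) % 2 = 1 by omega] at h1
    norm_num at h1
  by_cases hT : NoRoot σ M
  swap
  · simp only [NoRoot, not_forall] at hT
    obtain ⟨c, hc, hc0⟩ := hT
    exact root_full hb h2 hMJ hreal hc0 hc hx
  exfalso
  obtain ⟨⟨n, k, hn, -, hk, hcH, hcM, hcS⟩, htr⟩ := transitive hb h2 hMJ hreal hT hq hodd hdvd hne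
  have hqd : q < 13 := not_le.1 fun h => false_of_large hb h2 hMJ hreal hT htr h
  have hkpos : 0 < k := Nat.pos_of_ne_zero fun e => by rw [e, mul_zero] at hcH; exact Nat.card_pos.ne' hcH
  obtain ⟨t, rfl⟩ := hodd
  have ht : t = 3 ∨ t = 4 ∨ t = 5 := by omega
  rcases ht with rfl | rfl | rfl
  · obtain rfl : n = 43 := by omega
    obtain ⟨j, rfl⟩ := hk
    obtain rfl : j = 1 := by
      rw [hcM] at hsmall
      ring_nf at hsmall
      have : 0 < j := Nat.pos_of_ne_zero fun e => by simp [e] at hkpos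
      omega
    obtain ⟨a, ha, hord, hnorm⟩ := exists_normal_prime (M := M) (p := 43) (m := 336) (by norm_num)
      (by rw [hcM]; norm_num) (by decide +kernel) (by norm_num) (by norm_num)
    exact no_normal_prime hb h2 hMJ hreal hT (p := 43) (by rw [hcH]; norm_num) (by norm_num) ha hord hnorm
  · obtain rfl : n = 73 := by omega
    obtain ⟨j, rfl⟩ := hk
    obtain rfl : j = 1 := by
      rw [hcM] at hsmall
      ring_nf at hsmall
      have : 0 < j := Nat.pos_of_ne_zero fun e => by simp [e] at hkpos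
      omega
    obtain ⟨a, ha, hord, hnorm⟩ := exists_normal_prime (M := M) (p := 73) (m := 720) (by norm_num)
      (by rw [hcM]; norm_num) (by decide +kernel) (by norm_num) (by norm_num)
    exact no_normal_prime hb h2 hMJ hreal hT (p := 73) (by rw [hcH]; norm_num) (by norm_num) ha hord hnorm
  · obtain rfl : n = 111 := by omega
    obtain ⟨ζ, hζ, hord⟩ := Circle.exists_order hb
    have hz : ζ ^ 12 = 1 := by
      rw [pow_succ, show (11 : ℕ) = 2 * 5 + 1 from rfl, ← hb.eq_pow, mul_comm]; exact (mem_normOne hb).1 hζ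
    obtain ⟨z, hzdef⟩ : ∃ z : Fˣ, (z : F) = ζ ^ 4 :=
      ⟨Units.mk0 _ (pow_ne_zero _ (Circle.ne_zero_of_mem hb hζ)), rfl⟩
    have hzS : scl z ∈ realGroup σ ⊓ pStab F := by
      refine ⟨scl_mem ?_ (by rw [hzdef]; linear_combination hz), by simp [mem_pStab, scl_val]⟩
      rw [hzdef]
      exact (mem_normOne hb).1 (Circle.pow_mem hb hζ 4)
    have h3 : 3 ∣ k := by
      have ho : orderOf (scl z) = 3 := by
        have : Fact (Nat.Prime 3) := ⟨Nat.prime_three⟩
        refine orderOf_eq_prime (Units.ext ?_) fun e => ?_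
        · rw [Units.val_pow_eq_pow_val, scl_val, smul_pow, one_pow, hzdef, ← pow_mul, hz, one_smul, Units.val_one]
        · have h := congrFun (congrFun (congrArg (fun g : GL (Fin 3) F => (g : Matrix (Fin 3) (Fin 3) F)) e) 0) 0
          simp [scl_val, hzdef] at h
          exact hord 4 (by norm_num) (by norm_num) h
      exact ho ▸ hcS ▸ Subgroup.orderOf_dvd_natCard _ hzS
    have h330 : 330 ∣ k := by
      have := Nat.Coprime.mul_dvd_of_dvd_of_dvd (show Nat.Coprime 3 110 by norm_num) h3 (by simpa using hk)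
      simpa using this
    obtain ⟨j, rfl⟩ := h330
    rw [hcM] at hsmall
    ring_nf at hsmall
    omega

end CfsgLib.SUThree.Rational
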